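import Groth.Agent.Lib.RG6.Impure.Transport

/-!
# Base change data and impurities
-/

set_option autoImplicit false
set_option linter.style.haveILetI false
set_option linter.unusedSectionVars false

universe u

open TensorProduct

namespace GrothLib.RG6.Impure

/-- A point closure misses the fibre over `t` iff a function invertible at `t` vanishes on it. -/
theorem miss_iff {A' B' : Type u} [CommRing A'] [CommRing B'] [Algebra A' B'] (t : Ideal A') [t.IsPrime]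
    (P : Ideal B') :
    (∀ (P' : Ideal B') [P'.IsPrime], P ≤ P' → ¬ P'.LiesOver t) ↔
      ∃ s : A', s ∉ t ∧ algebraMap A' B' s ∈ P ⊔ t.map (algebraMap A' B') := by
  refine ⟨fun h => ?_, ?_⟩
  · by_contra! hs
    obtain ⟨P', hP', hle, hdis⟩ := Ideal.exists_le_prime_disjoint (P ⊔ t.map (algebraMap A' B'))
      (t.primeCompl.map (algebraMap A' B' : A' →* B')) (Set.disjoint_left.2 fun x hx hx' => by
        obtain ⟨s, hs', rfl⟩ := hx'
        exact hs s hs' hx)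
    refine @h P' hP' (le_trans le_sup_left hle) ⟨le_antisymm (Ideal.map_le_iff_le_comap.1 (le_trans le_sup_right hle)) ?_⟩
    intro a ha
    by_contra hat
    exact Set.disjoint_left.1 hdis ha ⟨a, hat, rfl⟩
  · rintro ⟨s, hs, hmem⟩ P' _ hle ⟨hover⟩
    refine hs (hover.symm.le (?_ : algebraMap A' B' s ∈ P'))
    exact (sup_le hle (Ideal.map_le_iff_le_comap.2 hover.le)) hmem

variable {A B : Type u} [CommRing A] [CommRing B] [Algebra A B] {N : Type u} [AddCommGroup N] [Module B N]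

theorem finiteType_baseChange [Algebra.FiniteType A B] {A' B' : Type u} [CommRing A'] [CommRing B'] [Algebra A A']
    [Algebra B B'] [Algebra A' B'] [Algebra A B'] [IsScalarTower A B B'] [IsScalarTower A A' B']
    (hpo : Algebra.IsPushout A B A' B') : Algebra.FiniteType A' B' := by
  haveI : Algebra.IsPushout A A' B B' := hpo.symm
  exact (inferInstance : Algebra.FiniteType A' (A' ⊗[A] B)).equiv (Algebra.IsPushout.equiv A A' B B')

variable (A B N) in
attribute [local instance] Algebra.TensorProduct.rightAlgebra in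
/-- The base change data along any map of rings. -/
theorem exists_data (A' : Type u) [CommRing A'] [Algebra A A'] :
    ∃ (B' N' : Type u) (_ : CommRing B') (_ : Algebra B B') (_ : Algebra A' B') (_ : Algebra A B')
      (_ : IsScalarTower A B B') (_ : IsScalarTower A A' B') (_ : AddCommGroup N') (_ : Module B' N') (_ : Module B N')
      (_ : IsScalarTower B B' N') (_ : Module A' N') (_ : IsScalarTower A' B' N') (f : N →ₗ[B] N'),
      Algebra.IsPushout A B A' B' ∧ IsBaseChange B' f := by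
  exact ⟨A' ⊗[A] B, (A' ⊗[A] B) ⊗[B] N, inferInstance, inferInstance, inferInstance, inferInstance, inferInstance,
    inferInstance, inferInstance, inferInstance, inferInstance, inferInstance, inferInstance, inferInstance,
    TensorProduct.mk B (A' ⊗[A] B) N 1, inferInstance, TensorProduct.isBaseChange B N (A' ⊗[A] B)⟩

section Map

variable {A₁ B₁ N₁ A₂ B₂ N₂ : Type u}
  [CommRing A₁] [CommRing B₁] [Algebra A A₁] [Algebra B B₁] [Algebra A₁ B₁] [Algebra A B₁] [IsScalarTower A B B₁]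
  [IsScalarTower A A₁ B₁] [AddCommGroup N₁] [Module B₁ N₁] [Module B N₁] [IsScalarTower B B₁ N₁]
  [CommRing A₂] [CommRing B₂] [Algebra A A₂] [Algebra B B₂] [Algebra A₂ B₂] [Algebra A B₂] [IsScalarTower A B B₂]
  [IsScalarTower A A₂ B₂] [AddCommGroup N₂] [Module B₂ N₂] [Module B N₂] [IsScalarTower B B₂ N₂]
  {f₁ : N →ₗ[B] N₁} {f₂ : N →ₗ[B] N₂}
  [Algebra A₁ A₂] [IsScalarTower A A₁ A₂]

/-- The map of base change data induced by a map of base change rings. -/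
theorem exists_map (hpo₁ : Algebra.IsPushout A B A₁ B₁) (hf₁ : IsBaseChange B₁ f₁)
    (hpo₂ : Algebra.IsPushout A B A₂ B₂) (hf₂ : IsBaseChange B₂ f₂) :
    ∃ (_ : Algebra B₁ B₂) (_ : Algebra A₁ B₂) (_ : IsScalarTower A₁ A₂ B₂) (_ : IsScalarTower A₁ B₁ B₂)
      (_ : IsScalarTower B B₁ B₂) (_ : Algebra.IsPushout A₁ A₂ B₁ B₂) (_ : Module B₁ N₂) (_ : IsScalarTower B₁ B₂ N₂)
      (φ : N₁ →ₗ[B₁] N₂), IsBaseChange B₂ φ ∧ ∀ n, φ (f₁ n) = f₂ n := by
  letI : Algebra A₁ B₂ := ((algebraMap A₂ B₂).comp (algebraMap A₁ A₂)).toAlgebra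
  haveI : IsScalarTower A₁ A₂ B₂ := .of_algebraMap_eq fun _ => rfl
  haveI : IsScalarTower A A₁ B₂ := .of_algebraMap_eq fun x => by
    show _ = algebraMap A₂ B₂ (algebraMap A₁ A₂ (algebraMap A A₁ x))
    rw [← IsScalarTower.algebraMap_apply A A₁ A₂, ← IsScalarTower.algebraMap_apply A A₂ B₂]
  haveI := hpo₁
  let β : B₁ →ₐ[A] B₂ := Algebra.pushoutDesc (R := A) (R' := A₁) B₁ (IsScalarTower.toAlgHom A B B₂)
    (IsScalarTower.toAlgHom A A₁ B₂) fun _ _ => Commute.all _ _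
  letI : Algebra B₁ B₂ := β.toRingHom.toAlgebra
  haveI : IsScalarTower A₁ B₁ B₂ := .of_algebraMap_eq fun x => by
    show _ = β _
    exact (Algebra.pushoutDesc_right (R := A) B₁ (IsScalarTower.toAlgHom A B B₂)
      (IsScalarTower.toAlgHom A A₁ B₂) (fun _ _ => Commute.all _ _) x).symm
  haveI : IsScalarTower B B₁ B₂ := .of_algebraMap_eq fun x => by
    show _ = β _
    exact (Algebra.pushoutDesc_left (R := A) (R' := A₁) B₁ (IsScalarTower.toAlgHom A B B₂)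
      (IsScalarTower.toAlgHom A A₁ B₂) (fun _ _ => Commute.all _ _) x).symm
  haveI : IsScalarTower A B₁ B₂ := .of_algebraMap_eq fun x => (β.commutes x).symm
  haveI : Algebra.IsPushout A A₁ B B₁ := hpo₁.symm
  haveI hsq : Algebra.IsPushout A₁ A₂ B₁ B₂ :=
    (Algebra.IsPushout.comp_iff A A₁ B B₁ (T := A₂) (T' := B₂)).1 hpo₂.symm
  letI : Module B₁ N₂ := Module.compHom N₂ (algebraMap B₁ B₂)
  haveI : IsScalarTower B₁ B₂ N₂ := IsScalarTower.of_algebraMap_smul fun _ _ => rfl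
  haveI : IsScalarTower B B₁ N₂ := IsScalarTower.of_algebraMap_smul fun b x => by
    show algebraMap B₁ B₂ (algebraMap B B₁ b) • x = b • x
    rw [← IsScalarTower.algebraMap_apply B B₁ B₂, algebraMap_smul]
  refine ⟨_, _, ‹_›, ‹_›, ‹_›, hsq, _, ‹_›, hf₁.lift f₂, IsBaseChange.of_comp hf₁ ?_, hf₁.lift_eq f₂⟩
  rw [IsBaseChange.lift_comp]
  exact hf₂

variable {p : Ideal A} [p.IsPrime] [Module A₂ N₂] [IsScalarTower A₂ B₂ N₂] [Module A₁ N₁] [IsScalarTower A₁ B₁ N₁]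

/-- An impurity pulls back along a map of base change rings. -/
theorem impurity_up [Algebra.FiniteType A B] (hpo₂ : Algebra.IsPushout A B A₂ B₂) (hf₂ : IsBaseChange B₂ f₂)
    {t₁' t₁ : Ideal A₁} [t₁'.IsPrime] [t₁.IsPrime] {P₁ : Ideal B₁} [P₁.IsPrime]
    (himp : FlatCA.IsImpurity A B N p A₁ B₁ N₁ f₁ t₁' t₁ P₁)
    (t₂' t₂ : Ideal A₂) [t₂'.IsPrime] [t₂.IsPrime] (hle : t₂' ≤ t₂) [t₂'.LiesOver t₁'] [t₂.LiesOver t₁] :
    ∃ (P₂ : Ideal B₂) (_ : P₂.IsPrime), FlatCA.IsImpurity A B N p A₂ B₂ N₂ f₂ t₂' t₂ P₂ := by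
  obtain ⟨hpo₁, hf₁, -, ht, hP, hass, hmiss⟩ := himp
  obtain ⟨_, _, _, _, _, _, _, _, φ, hφ, -⟩ := exists_map hpo₁ hf₁ hpo₂ hf₂
  haveI := finiteType_baseChange hpo₁
  obtain ⟨P₂, hP₂, hc, hl, hass₂⟩ := (ass_both hφ t₁' t₂').2 P₁ hP hass
  haveI := ht
  refine ⟨P₂, hP₂, hpo₂, hf₂, hle, Ideal.LiesOver.trans t₂ t₁ p, hl, hass₂, fun P' _ hP' hover => ?_⟩
  refine hmiss (P'.comap (algebraMap B₁ B₂)) (hc ▸ Ideal.comap_mono hP') ⟨?_⟩
  rw [t₂.over_def t₁, hover.over]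
  show (P'.comap _).comap _ = (P'.comap _).comap _
  rw [Ideal.comap_comap, Ideal.comap_comap, ← IsScalarTower.algebraMap_eq A₁ A₂ B₂,
    ← IsScalarTower.algebraMap_eq A₁ B₁ B₂]

/-- An impurity pushes forward along a map of base change rings, as soon as the image of its point
misses the fibre. -/
theorem impurity_down [Algebra.FiniteType A B] [Algebra B₁ B₂] [Algebra A₁ B₂] [IsScalarTower A₁ A₂ B₂]
    [IsScalarTower A₁ B₁ B₂] [Algebra.IsPushout A₁ A₂ B₁ B₂] [Module B₁ N₂] [IsScalarTower B₁ B₂ N₂]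
    {φ : N₁ →ₗ[B₁] N₂} (hφ : IsBaseChange B₂ φ) (hpo₁ : Algebra.IsPushout A B A₁ B₁) (hf₁ : IsBaseChange B₁ f₁)
    {t₂' : Ideal A₂} [t₂'.IsPrime] {P₂ : Ideal B₂} [P₂.IsPrime] (hP : P₂.LiesOver t₂')
    (hass : FlatCA.fiberIdeal t₂' P₂ ∈ associatedPrimes (t₂'.Fiber B₂) (FlatCA.fiberMod t₂' B₂ N₂))
    (t₁ : Ideal A₁) [t₁.IsPrime] [t₁.LiesOver p] (hle : t₂'.comap (algebraMap A₁ A₂) ≤ t₁)
    (hmiss : ∀ (P' : Ideal B₁) [P'.IsPrime], P₂.comap (algebraMap B₁ B₂) ≤ P' → ¬ P'.LiesOver t₁) :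
    FlatCA.IsImpurity A B N p A₁ B₁ N₁ f₁ (t₂'.comap (algebraMap A₁ A₂)) t₁ (P₂.comap (algebraMap B₁ B₂)) := by
  haveI := finiteType_baseChange hpo₁
  haveI : t₂'.LiesOver (t₂'.comap (algebraMap A₁ A₂)) := ⟨rfl⟩
  obtain ⟨h1, h2⟩ := (ass_both hφ (t₂'.comap (algebraMap A₁ A₂)) t₂').1 P₂ hP hass
  exact ⟨hpo₁, hf₁, hle, ‹_›, h1, h2, hmiss⟩

end Map

end GrothLib.RG6.Impure
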