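import Groth.Agent.Lib.RG6.Impure.Pairs

/-!
# Impurities and composite base changes
-/

set_option autoImplicit false
set_option linter.style.haveILetI false
set_option linter.unusedSectionVars false

universe u

open TensorProduct

namespace GrothLib.RG6.Impure

variable {A B : Type u} [CommRing A] [CommRing B] [Algebra A B] [Algebra.FiniteType A B]
  {N : Type u} [AddCommGroup N] [Module B N] {p : Ideal A} [p.IsPrime]
  {A' B' N' : Type u} [CommRing A'] [CommRing B'] [Algebra A A'] [Algebra B B'] [Algebra A' B'] [Algebra A B']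
  [IsScalarTower A B B'] [IsScalarTower A A' B'] [AddCommGroup N'] [Module B' N'] [Module B N']
  [IsScalarTower B B' N'] {f : N →ₗ[B] N'}
  {A'' B'' N'' : Type u} [CommRing A''] [CommRing B''] [Algebra A' A''] [Algebra B' B''] [Algebra A'' B'']
  [Algebra A' B''] [IsScalarTower A' B' B''] [IsScalarTower A' A'' B''] [AddCommGroup N''] [Module B'' N'']
  [Module B' N''] [IsScalarTower B' B'' N''] [Module A'' N''] [IsScalarTower A'' B'' N''] {g : N' →ₗ[B'] N''}
  [Algebra A A''] [IsScalarTower A A' A'']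

/-- An impurity of a base change is an impurity of the module. -/
theorem hasImpurity_of_baseChange (hpo : Algebra.IsPushout A B A' B') (hf : IsBaseChange B' f) {p' : Ideal A'}
    [p'.IsPrime] [p'.LiesOver p] {t' t : Ideal A''} [t'.IsPrime] [t.IsPrime] {P : Ideal B''} [P.IsPrime]
    (himp : FlatCA.IsImpurity A' B' N' p' A'' B'' N'' g t' t P)
    (Q : ∀ (C : Type u) [CommRing C] [Algebra A C], Ideal C → Prop) (hQ : Q A'' t) :
    FlatCA.HasImpurity A B N p Q := by
  obtain ⟨hpo', hg, hle, ht, hP, hass, hmiss⟩ := himp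
  letI : Algebra B B'' := ((algebraMap B' B'').comp (algebraMap B B')).toAlgebra
  haveI : IsScalarTower B B' B'' := .of_algebraMap_eq fun _ => rfl
  letI : Algebra A B'' := ((algebraMap A'' B'').comp (algebraMap A A'')).toAlgebra
  haveI : IsScalarTower A A'' B'' := .of_algebraMap_eq fun _ => rfl
  haveI : IsScalarTower A A' B'' := .of_algebraMap_eq fun x => by
    show algebraMap A'' B'' (algebraMap A A'' x) = algebraMap A' B'' (algebraMap A A' x)
    rw [IsScalarTower.algebraMap_apply A A' A'', ← IsScalarTower.algebraMap_apply A' A'' B'']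
  haveI : IsScalarTower A B B'' := .of_algebraMap_eq fun x => by
    show algebraMap A'' B'' (algebraMap A A'' x) = algebraMap B' B'' (algebraMap B B' (algebraMap A B x))
    rw [← IsScalarTower.algebraMap_apply A B B', IsScalarTower.algebraMap_apply A A' A'',
      ← IsScalarTower.algebraMap_apply A' A'' B'', IsScalarTower.algebraMap_apply A A' B',
      ← IsScalarTower.algebraMap_apply A' B' B'']
  haveI : IsScalarTower A B' B'' := .of_algebraMap_eq fun x => by
    rw [IsScalarTower.algebraMap_apply A A' B', ← IsScalarTower.algebraMap_apply A' B' B'',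
      ← IsScalarTower.algebraMap_apply A A' B'']
  letI : Module B N'' := Module.compHom N'' (algebraMap B B'')
  haveI : IsScalarTower B B'' N'' := IsScalarTower.of_algebraMap_smul fun _ _ => rfl
  haveI : IsScalarTower B B' N'' := IsScalarTower.of_algebraMap_smul fun b n => by
    show algebraMap B B' b • n = algebraMap B B'' b • n
    rw [IsScalarTower.algebraMap_apply B B' B'']
    exact (algebraMap_smul B'' _ n).symm
  haveI : Algebra.IsPushout A A' B B' := hpo.symm
  have hpo2 : Algebra.IsPushout A B A'' B'' :=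
    Algebra.IsPushout.symm ((Algebra.IsPushout.comp_iff A A' B B' (T := A'') (T' := B'')).mpr hpo'.symm)
  refine ⟨A'', B'', N'', _, _, _, _, _, _, ‹_›, ‹_›, _, _, _, ‹_›, _, ‹_›, (g.restrictScalars B).comp f, t', t,
    inferInstance, inferInstance, P, inferInstance, ⟨hpo2, hf.comp hg, hle, Ideal.LiesOver.trans t p' p, hP, hass, hmiss⟩, hQ⟩

section Pair

variable {A₁ B₁ N₁ : Type u} [CommRing A₁] [CommRing B₁] [Algebra A A₁] [Algebra B B₁] [Algebra A₁ B₁] [Algebra A B₁]
  [IsScalarTower A B B₁] [IsScalarTower A A₁ B₁] [AddCommGroup N₁] [Module B₁ N₁] [Module B N₁]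
  [IsScalarTower B B₁ N₁] [Module A₁ N₁] [IsScalarTower A₁ B₁ N₁] {f₁ : N →ₗ[B] N₁}
  [Algebra A₁ A''] [IsScalarTower A A₁ A'']

/-- An impurity gives one of a base change, along a pair of points. -/
theorem hasImpurity_baseChange_of_pair (hpo : Algebra.IsPushout A B A' B') (hf : IsBaseChange B' f) {p' : Ideal A'}
    [p'.IsPrime] {t' t : Ideal A₁} [t'.IsPrime] [t.IsPrime] {P : Ideal B₁} [P.IsPrime]
    (himp : FlatCA.IsImpurity A B N p A₁ B₁ N₁ f₁ t' t P) {t₂' t₂ : Ideal A''} [t₂'.IsPrime] [t₂.IsPrime]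
    (hle : t₂' ≤ t₂) [t₂'.LiesOver t'] [t₂.LiesOver t] [t₂.LiesOver p']
    (Q : ∀ (C : Type u) [CommRing C] [Algebra A' C], Ideal C → Prop) (hQ : Q A'' t₂) :
    FlatCA.HasImpurity A' B' N' p' Q := by
  obtain ⟨B₂, N₂, _, _, _, _, _, _, _, _, _, _, _, _, f₂, hpo₂, hf₂⟩ := exists_data A B N A''
  obtain ⟨P₂, _, hP₂⟩ := impurity_up hpo₂ hf₂ himp t₂' t₂ hle
  obtain ⟨-, -, -, -, hl, hass, hmiss⟩ := hP₂
  obtain ⟨_, _, _, _, _, hsq, _, _, φ, hφ, -⟩ := exists_map hpo hf hpo₂ hf₂
  exact ⟨A'', B₂, N₂, _, _, _, _, _, _, ‹_›, ‹_›, _, _, _, ‹_›, _, ‹_›, φ, t₂', t₂, inferInstance, inferInstance, P₂,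
    inferInstance, ⟨hsq.symm, hφ, hle, inferInstance, hl, hass, hmiss⟩, hQ⟩

end Pair

end GrothLib.RG6.Impure
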