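import Groth.Agent.Lib.RG6.Impure.AssExt
import Groth.Agent.Lib.RG6.WeakAss

/-!
# Moving impurities along maps of base change rings
-/

set_option autoImplicit false
set_option linter.style.haveILetI false
set_option linter.unusedSectionVars false

universe u

open TensorProduct

namespace GrothLib.RG6.Impure

section Gen

variable {A₁ B₁ k₁ k₂ F₁ F₂ : Type u} [CommRing A₁] [CommRing B₁] [Field k₁] [CommRing k₂] [CommRing F₁] [CommRing F₂]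
  [Algebra A₁ B₁] [Algebra A₁ k₁] [Algebra A₁ k₂] [Algebra k₁ k₂] [IsScalarTower A₁ k₁ k₂]
  [Algebra B₁ F₁] [Algebra k₁ F₁] [Algebra A₁ F₁] [IsScalarTower A₁ B₁ F₁] [IsScalarTower A₁ k₁ F₁]
  [Algebra B₁ F₂] [Algebra k₂ F₂] [Algebra A₁ F₂] [IsScalarTower A₁ B₁ F₂] [IsScalarTower A₁ k₂ F₂]
  [h₁ : Algebra.IsPushout A₁ k₁ B₁ F₁] [h₂ : Algebra.IsPushout A₁ k₂ B₁ F₂]
  [IsNoetherianRing F₁] [IsNoetherianRing F₂]
  {N M₁ M₂ : Type u} [AddCommGroup N] [Module B₁ N] [AddCommGroup M₁] [Module F₁ M₁] [Module B₁ M₁]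
  [IsScalarTower B₁ F₁ M₁] [AddCommGroup M₂] [Module F₂ M₂] [Module B₁ M₂] [IsScalarTower B₁ F₂ M₂]

include h₁ h₂

variable (A₁ k₁ k₂ F₁ F₂) in
omit [IsNoetherianRing F₁] [IsNoetherianRing F₂] in
/-- The comparison map of the two fibre rings. -/
theorem exists_compare {g₁ : N →ₗ[B₁] M₁} (hg₁ : IsBaseChange F₁ g₁) {g₂ : N →ₗ[B₁] M₂} (hg₂ : IsBaseChange F₂ g₂) :
    ∃ (_ : Algebra F₁ F₂) (_ : Algebra k₁ F₂) (_ : IsScalarTower k₁ F₁ F₂) (_ : IsScalarTower k₁ k₂ F₂)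
      (_ : IsScalarTower B₁ F₁ F₂) (_ : Algebra.IsPushout k₁ k₂ F₁ F₂) (_ : Module F₁ M₂) (_ : IsScalarTower F₁ F₂ M₂)
      (g : M₁ →ₗ[F₁] M₂), IsBaseChange F₂ g := by
  letI : Algebra k₁ F₂ := ((algebraMap k₂ F₂).comp (algebraMap k₁ k₂)).toAlgebra
  haveI : IsScalarTower k₁ k₂ F₂ := .of_algebraMap_eq fun _ => rfl
  haveI : IsScalarTower A₁ k₁ F₂ := .of_algebraMap_eq fun x => by
    rw [IsScalarTower.algebraMap_apply A₁ k₂ F₂, IsScalarTower.algebraMap_apply A₁ k₁ k₂]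
    rfl
  let φ : F₁ →ₐ[A₁] F₂ := Algebra.pushoutDesc F₁ (IsScalarTower.toAlgHom A₁ k₁ F₂) (IsScalarTower.toAlgHom A₁ B₁ F₂)
    fun _ _ => Commute.all _ _
  letI : Algebra F₁ F₂ := φ.toRingHom.toAlgebra
  haveI : IsScalarTower k₁ F₁ F₂ := .of_algebraMap_eq fun x => by
    show _ = φ _
    exact (Algebra.pushoutDesc_left (R := A₁) (R' := B₁) F₁ (IsScalarTower.toAlgHom A₁ k₁ F₂) (IsScalarTower.toAlgHom A₁ B₁ F₂) (fun _ _ => Commute.all _ _) x).symm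
  haveI : IsScalarTower B₁ F₁ F₂ := .of_algebraMap_eq fun x => by
    show _ = φ _
    exact (Algebra.pushoutDesc_right (R := A₁) F₁ (IsScalarTower.toAlgHom A₁ k₁ F₂) (IsScalarTower.toAlgHom A₁ B₁ F₂) (fun _ _ => Commute.all _ _) x).symm
  haveI : IsScalarTower A₁ F₁ F₂ := .of_algebraMap_eq fun x => by
    rw [IsScalarTower.algebraMap_apply A₁ k₁ F₂, IsScalarTower.algebraMap_apply k₁ F₁ F₂,
      ← IsScalarTower.algebraMap_apply A₁ k₁ F₁]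
  haveI hpo : Algebra.IsPushout k₁ k₂ F₁ F₂ := (Algebra.IsPushout.comp_iff A₁ k₁ B₁ F₁ (T := k₂) (T' := F₂)).1 h₂
  letI : Module F₁ M₂ := Module.compHom M₂ (algebraMap F₁ F₂)
  haveI : IsScalarTower F₁ F₂ M₂ := IsScalarTower.of_algebraMap_smul fun _ _ => rfl
  haveI : IsScalarTower B₁ F₁ M₂ := IsScalarTower.of_algebraMap_smul fun b x => by
    show algebraMap F₁ F₂ (algebraMap B₁ F₁ b) • x = b • x
    rw [← IsScalarTower.algebraMap_apply B₁ F₁ F₂, algebraMap_smul]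
  refine ⟨_, _, ‹_›, ‹_›, ‹_›, hpo, _, ‹_›, hg₁.lift g₂, IsBaseChange.of_comp hg₁ ?_⟩
  rw [IsBaseChange.lift_comp]
  exact hg₂

variable (A₁ k₁ k₂) in
theorem ass_gen_down {g₁ : N →ₗ[B₁] M₁} (hg₁ : IsBaseChange F₁ g₁) {g₂ : N →ₗ[B₁] M₂} (hg₂ : IsBaseChange F₂ g₂)
    {Q : Ideal F₂} (hQ : Q ∈ associatedPrimes F₂ M₂) :
    ∃ Q₁ ∈ associatedPrimes F₁ M₁, Q₁.comap (algebraMap B₁ F₁) = Q.comap (algebraMap B₁ F₂) := by
  obtain ⟨_, _, _, _, _, _, _, _, g, hg⟩ := exists_compare A₁ k₁ k₂ F₁ F₂ hg₁ hg₂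
  letI : Module k₁ M₁ := Module.compHom M₁ (algebraMap k₁ F₁)
  haveI : IsScalarTower k₁ F₁ M₁ := IsScalarTower.of_algebraMap_smul fun _ _ => rfl
  refine ⟨_, comap_mem_ass k₁ k₂ hg hQ, ?_⟩
  rw [Ideal.comap_comap, ← IsScalarTower.algebraMap_eq]

variable (A₁ k₁ k₂) in
theorem ass_gen_up [Nontrivial k₂] {g₁ : N →ₗ[B₁] M₁} (hg₁ : IsBaseChange F₁ g₁) {g₂ : N →ₗ[B₁] M₂}
    (hg₂ : IsBaseChange F₂ g₂) {Q₁ : Ideal F₁} (hQ : Q₁ ∈ associatedPrimes F₁ M₁) :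
    ∃ Q ∈ associatedPrimes F₂ M₂, Q.comap (algebraMap B₁ F₂) = Q₁.comap (algebraMap B₁ F₁) := by
  obtain ⟨_, _, _, _, _, _, _, _, g, hg⟩ := exists_compare A₁ k₁ k₂ F₁ F₂ hg₁ hg₂
  letI : Module k₁ M₁ := Module.compHom M₁ (algebraMap k₁ F₁)
  haveI : IsScalarTower k₁ F₁ M₁ := IsScalarTower.of_algebraMap_smul fun _ _ => rfl
  obtain ⟨Q, hQ', rfl⟩ := exists_ass_over k₁ k₂ hg hQ
  refine ⟨Q, hQ', ?_⟩
  rw [Ideal.comap_comap, ← IsScalarTower.algebraMap_eq]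

end Gen

section Fibre

attribute [local instance] Algebra.TensorProduct.rightAlgebra

variable {A₁ A₂ B₁ B₂ : Type u} [CommRing A₁] [CommRing A₂] [CommRing B₁] [CommRing B₂]
  [Algebra A₁ A₂] [Algebra A₁ B₁] [Algebra A₂ B₂] [Algebra B₁ B₂] [Algebra A₁ B₂]
  [IsScalarTower A₁ A₂ B₂] [IsScalarTower A₁ B₁ B₂] [Algebra.IsPushout A₁ A₂ B₁ B₂] [Algebra.FiniteType A₁ B₁]
  {N₁ N₂ : Type u} [AddCommGroup N₁] [Module B₁ N₁] [AddCommGroup N₂] [Module B₂ N₂] [Module B₁ N₂]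
  [IsScalarTower B₁ B₂ N₂] {φ : N₁ →ₗ[B₁] N₂}

theorem mem_fibre_iff {A B : Type u} [CommRing A] [CommRing B] [Algebra A B] (t : Ideal A) [t.IsPrime] (P : Ideal B)
    [P.IsPrime] {Q : Ideal (t.Fiber B)} [Q.IsPrime] :
    (P.LiesOver t ∧ FlatCA.fiberIdeal t P = Q) ↔ Q.comap (algebraMap B (t.Fiber B)) = P := by
  refine ⟨?_, ?_⟩
  · rintro ⟨h, rfl⟩
    exact GrothLib.WeakAssFib.comap_fiberIdeal t P
  · rintro rfl
    refine ⟨⟨(GrothLib.WeakAssFib.comap_comap_toFib t Q).symm⟩, GrothLib.WeakAssFib.fiberIdeal_comap t Q⟩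

theorem ass_both (hφ : IsBaseChange B₂ φ) (t₁ : Ideal A₁) (t₂ : Ideal A₂) [t₁.IsPrime] [t₂.IsPrime]
    [t₂.LiesOver t₁] [Module A₁ N₁] [IsScalarTower A₁ B₁ N₁] [Module A₂ N₂] [IsScalarTower A₂ B₂ N₂] :
    (∀ (P₂ : Ideal B₂) [P₂.IsPrime], P₂.LiesOver t₂ →
      FlatCA.fiberIdeal t₂ P₂ ∈ associatedPrimes (t₂.Fiber B₂) (FlatCA.fiberMod t₂ B₂ N₂) →
      (P₂.comap (algebraMap B₁ B₂)).LiesOver t₁ ∧ FlatCA.fiberIdeal t₁ (P₂.comap (algebraMap B₁ B₂)) ∈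
        associatedPrimes (t₁.Fiber B₁) (FlatCA.fiberMod t₁ B₁ N₁)) ∧
    ∀ (P₁ : Ideal B₁) [P₁.IsPrime], P₁.LiesOver t₁ →
      FlatCA.fiberIdeal t₁ P₁ ∈ associatedPrimes (t₁.Fiber B₁) (FlatCA.fiberMod t₁ B₁ N₁) →
      ∃ (P₂ : Ideal B₂) (_ : P₂.IsPrime), P₂.comap (algebraMap B₁ B₂) = P₁ ∧ P₂.LiesOver t₂ ∧
        FlatCA.fiberIdeal t₂ P₂ ∈ associatedPrimes (t₂.Fiber B₂) (FlatCA.fiberMod t₂ B₂ N₂) := by
  haveI : Algebra.FiniteType A₂ B₂ :=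
    (inferInstance : Algebra.FiniteType A₂ (A₂ ⊗[A₁] B₁)).equiv (Algebra.IsPushout.equiv A₁ A₂ B₁ B₂)
  haveI : IsNoetherianRing (t₁.Fiber B₁) := Algebra.FiniteType.isNoetherianRing t₁.ResidueField _
  haveI : IsNoetherianRing (t₂.Fiber B₂) := Algebra.FiniteType.isNoetherianRing t₂.ResidueField _
  letI : Algebra t₁.ResidueField t₂.ResidueField := (Ideal.ResidueField.map t₁ t₂ (algebraMap A₁ A₂) (t₂.over_def t₁)).toAlgebra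
  haveI : IsScalarTower A₁ t₁.ResidueField t₂.ResidueField := .of_algebraMap_eq fun x => by
    rw [IsScalarTower.algebraMap_apply A₁ A₂ t₂.ResidueField]
    exact (Ideal.ResidueField.map_algebraMap _ _ _ _ x).symm
  letI : Algebra B₁ (t₂.Fiber B₂) := ((algebraMap B₂ (t₂.Fiber B₂)).comp (algebraMap B₁ B₂)).toAlgebra
  haveI : IsScalarTower B₁ B₂ (t₂.Fiber B₂) := .of_algebraMap_eq fun _ => rfl
  haveI hA₂ : IsScalarTower A₁ A₂ (t₂.Fiber B₂) := inferInstance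
  haveI : IsScalarTower A₁ B₂ (t₂.Fiber B₂) := .of_algebraMap_eq fun x => by
    rw [IsScalarTower.algebraMap_apply A₁ A₂ B₂, ← IsScalarTower.algebraMap_apply A₂ B₂ (t₂.Fiber B₂),
      ← IsScalarTower.algebraMap_apply A₁ A₂ (t₂.Fiber B₂)]
  haveI : IsScalarTower A₁ B₁ (t₂.Fiber B₂) := .of_algebraMap_eq fun x => by
    show _ = algebraMap B₂ (t₂.Fiber B₂) (algebraMap B₁ B₂ (algebraMap A₁ B₁ x))
    rw [← IsScalarTower.algebraMap_apply A₁ B₁ B₂, ← IsScalarTower.algebraMap_apply A₁ B₂ (t₂.Fiber B₂)]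
  haveI : Algebra.IsPushout A₁ t₂.ResidueField B₁ (t₂.Fiber B₂) :=
    (Algebra.IsPushout.comp_iff A₁ A₂ B₁ B₂ (T := t₂.ResidueField) (T' := t₂.Fiber B₂)).2 inferInstance
  let g₁ : N₁ →ₗ[B₁] (t₁.Fiber B₁) ⊗[B₁] N₁ := TensorProduct.mk B₁ (t₁.Fiber B₁) N₁ 1
  have hg₁ : IsBaseChange (t₁.Fiber B₁) g₁ := TensorProduct.isBaseChange B₁ N₁ (t₁.Fiber B₁)
  haveI : IsScalarTower B₁ B₂ ((t₂.Fiber B₂) ⊗[B₂] N₂) := TensorProduct.isScalarTower_left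
  let g₂ : N₁ →ₗ[B₁] (t₂.Fiber B₂) ⊗[B₂] N₂ := ((TensorProduct.mk B₂ (t₂.Fiber B₂) N₂ 1).restrictScalars B₁).comp φ
  have hg₂ : IsBaseChange (t₂.Fiber B₂) g₂ := hφ.comp (TensorProduct.isBaseChange B₂ N₂ (t₂.Fiber B₂))
  refine ⟨fun P₂ _ hP h => ?_, fun P₁ _ hP h => ?_⟩
  · obtain ⟨Q₁, hQ₁, e⟩ := ass_gen_down A₁ t₁.ResidueField t₂.ResidueField hg₁ hg₂ h
    haveI := hQ₁.isPrime
    have e' : Q₁.comap (algebraMap B₁ (t₁.Fiber B₁)) = P₂.comap (algebraMap B₁ B₂) := by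
      rw [e, IsScalarTower.algebraMap_eq B₁ B₂ (t₂.Fiber B₂), ← Ideal.comap_comap]
      exact congrArg _ (GrothLib.WeakAssFib.comap_fiberIdeal t₂ P₂)
    obtain ⟨hl, hf⟩ := (mem_fibre_iff t₁ _).2 e'
    exact ⟨hl, by rw [hf]; exact hQ₁⟩
  · obtain ⟨Q, hQ, e⟩ := ass_gen_up A₁ t₁.ResidueField t₂.ResidueField hg₁ hg₂ h
    haveI := hQ.isPrime
    obtain ⟨hl, hf⟩ := (mem_fibre_iff t₂ (Q.comap (algebraMap B₂ (t₂.Fiber B₂)))).2 rfl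
    refine ⟨Q.comap (algebraMap B₂ (t₂.Fiber B₂)), inferInstance, ?_, hl, by rw [hf]; exact hQ⟩
    rw [Ideal.comap_comap, ← IsScalarTower.algebraMap_eq B₁ B₂ (t₂.Fiber B₂), e]
    exact GrothLib.WeakAssFib.comap_fiberIdeal t₁ P₁

end Fibre

end GrothLib.RG6.Impure
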