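import Mathlib
import Groth.Prelude.Def_FlatCA

/-!
# Associated points of fibres under field extensions
-/

set_option autoImplicit false
set_option linter.style.haveILetI false
set_option linter.unusedSectionVars false

universe u

open TensorProduct

namespace GrothLib.RG6.Impure

variable {k : Type u} [Field k] {F : Type u} [CommRing F] [Algebra k F] [IsNoetherianRing F]
  {K : Type u} [CommRing K] [Algebra k K]
  {F' : Type u} [CommRing F'] [Algebra F F'] [Algebra K F'] [Algebra k F'] [IsScalarTower k F F'] [IsScalarTower k K F']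
  {M : Type u} [AddCommGroup M] [Module F M] [Module k M] [IsScalarTower k F M]

section
variable {I : Type*} (b : Module.Basis I k K)

open scoped Classical in
/-- The components of an element of the extended module. -/
noncomputable def comps : K ⊗[k] M ≃ₗ[k] (I →₀ M) := TensorProduct.equivFinsuppOfBasisLeft b

open scoped Classical in
theorem comps_lTensor {M' : Type u} [AddCommGroup M'] [Module k M'] (f : M →ₗ[k] M') (x : K ⊗[k] M) (i : I) :
    (TensorProduct.equivFinsuppOfBasisLeft b) (f.lTensor K x) i = f (comps b x i) := by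
  induction x using TensorProduct.induction_on with
  | zero => simp [comps]
  | add a c ha hc => simp only [comps, map_add, Finsupp.add_apply] at ha hc ⊢; rw [ha, hc]
  | tmul a m => simp [comps]

end

variable (k K) [Algebra.IsPushout k K F F'] {M' : Type u} [AddCommGroup M'] [Module F' M'] [Module F M']
  [IsScalarTower F F' M'] {f : M →ₗ[F] M'}

include k K

theorem exists_comps (hf : IsBaseChange F' f) :
    ∃ (I : Type u) (c : M' → I → M), (∀ x i (a : F), c (a • x) i = a • c x i) ∧ (∀ x, Set.Finite {i | c x i ≠ 0}) ∧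
      (∀ x, (∀ i, c x i = 0) → x = 0) ∧ ∀ m (r : F') i, ∃ a : F, c (r • f m) i = a • m := by
  classical
  letI : Module k M' := Module.compHom M' (algebraMap k F')
  let e : M' ≃ₗ[k] K ⊗[k] M :=
    (hf.equiv.symm.toAddEquiv.trans
      (Algebra.IsPushout.cancelBaseChange k K F F' M).toAddEquiv).toLinearEquiv fun a x => by
        show Algebra.IsPushout.cancelBaseChange k K F F' M (hf.equiv.symm (algebraMap k F' a • x)) =
          a • Algebra.IsPushout.cancelBaseChange k K F F' M (hf.equiv.symm x)
        rw [map_smul, IsScalarTower.algebraMap_apply k K F', algebraMap_smul, map_smul, algebraMap_smul]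
  let b := Module.Free.chooseBasis k K
  have hact : ∀ (a : F) (x : M'), e (a • x) = ((Algebra.lsmul k k M) a).lTensor K (e x) := by
    intro a x
    obtain ⟨z, rfl⟩ := hf.equiv.surjective x
    show Algebra.IsPushout.cancelBaseChange k K F F' M (hf.equiv.symm (a • hf.equiv z)) =
      ((Algebra.lsmul k k M) a).lTensor K (Algebra.IsPushout.cancelBaseChange k K F F' M (hf.equiv.symm (hf.equiv z)))
    rw [← algebraMap_smul F' a, ← map_smul, LinearEquiv.symm_apply_apply, LinearEquiv.symm_apply_apply]
    obtain ⟨w, rfl⟩ := (Algebra.IsPushout.cancelBaseChange k K F F' M).symm.surjective z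
    induction w using TensorProduct.induction_on with
    | zero => simp
    | add p q hp hq => simp only [map_add, smul_add, hp, hq]
    | tmul c m =>
      rw [LinearEquiv.apply_symm_apply, LinearMap.lTensor_tmul]
      apply (Algebra.IsPushout.cancelBaseChange k K F F' M).symm.injective
      rw [LinearEquiv.symm_apply_apply]
      simp [TensorProduct.tmul_smul]
  refine ⟨_, fun x i => comps b (e x) i, fun x i a => ?_, fun x => (comps b (e x)).hasFiniteSupport, fun x hx => ?_,
    fun m r i => ?_⟩
  · show comps b (e (a • x)) i = a • comps b (e x) i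
    rw [hact]
    exact comps_lTensor b _ _ _
  · exact e.map_eq_zero_iff.1 ((comps b).map_eq_zero_iff.1 (Finsupp.ext hx))
  · have h1 : e (r • f m) ∈ LinearMap.range (((LinearMap.toSpanSingleton F M m).restrictScalars k).lTensor K) := by
      refine ⟨Algebra.IsPushout.cancelBaseChange k K F F' F (r ⊗ₜ[F] 1), ?_⟩
      show _ = Algebra.IsPushout.cancelBaseChange k K F F' M (hf.equiv.symm (r • f m))
      rw [show r • f m = hf.equiv (r ⊗ₜ[F] m) from (hf.equiv_tmul r m).symm, LinearEquiv.symm_apply_apply]
      have hnat : ∀ z : F' ⊗[F] F, ((LinearMap.toSpanSingleton F M m).restrictScalars k).lTensor K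
          (Algebra.IsPushout.cancelBaseChange k K F F' F z) =
          Algebra.IsPushout.cancelBaseChange k K F F' M ((LinearMap.toSpanSingleton F M m).lTensor F' z) := by
        intro z
        obtain ⟨w, rfl⟩ := (Algebra.IsPushout.cancelBaseChange k K F F' F).symm.surjective z
        induction w using TensorProduct.induction_on with
        | zero => simp
        | add p q hp hq => simp only [map_add, hp, hq]
        | tmul c a =>
          rw [LinearEquiv.apply_symm_apply, LinearMap.lTensor_tmul]
          apply (Algebra.IsPushout.cancelBaseChange k K F F' M).symm.injective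
          rw [LinearEquiv.symm_apply_apply]
          simp
      rw [hnat, LinearMap.lTensor_tmul, LinearMap.toSpanSingleton_apply, one_smul]
    obtain ⟨w, hw⟩ := h1
    refine ⟨comps b w i, ?_⟩
    show comps b (e (r • f m)) i = _
    rw [← hw]
    exact comps_lTensor b _ _ _

/-- An associated prime of the extension contracts to an associated prime. -/
theorem comap_mem_ass [IsNoetherianRing F'] (hf : IsBaseChange F' f) {Q : Ideal F'}
    (hQ : Q ∈ associatedPrimes F' M') : Q.comap (algebraMap F F') ∈ associatedPrimes F M := by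
  classical
  obtain ⟨I, c, hc, hfin, hzero, -⟩ := exists_comps k K hf
  obtain ⟨hQp, x, hx⟩ := isAssociatedPrime_iff.1 hQ
  haveI := hQp
  let s := (hfin x).toFinset
  have hann : ∀ a : F, a ∈ Q.comap (algebraMap F F') ↔ ∀ i ∈ s, a • c x i = 0 := fun a => by
    rw [Ideal.mem_comap, hx, Submodule.mem_colon_singleton, Submodule.mem_bot, algebraMap_smul]
    refine ⟨fun h i _ => ?_, fun h => hzero _ fun i => ?_⟩
    · rw [← hc, h, ← zero_smul F (0 : M'), hc, zero_smul]
    · rw [hc]
      by_cases hi : i ∈ s
      · exact h i hi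
      · rw [show c x i = 0 from by_contra fun h' => hi ((hfin x).mem_toFinset.2 h'), smul_zero]
  obtain ⟨i, hi, hle⟩ : ∃ i ∈ s, (⊥ : Submodule F M).colon {c x i} ≤ Q.comap (algebraMap F F') := by
    refine (Ideal.IsPrime.inf_le' (Ideal.IsPrime.comap _)).1 fun a ha => (hann a).2 fun i hi => ?_
    have := (Finset.inf_le hi : s.inf (fun i => (⊥ : Submodule F M).colon {c x i}) ≤ _) ha
    rwa [Submodule.mem_colon_singleton, Submodule.mem_bot] at this
  refine isAssociatedPrime_iff.2 ⟨Ideal.IsPrime.comap _, c x i, le_antisymm (fun a ha => ?_) hle⟩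
  rw [Submodule.mem_colon_singleton, Submodule.mem_bot]
  exact (hann a).1 ha i hi

/-- An associated prime lies under an associated prime of the extension. -/
theorem exists_ass_over [IsNoetherianRing F'] [Nontrivial K] (hf : IsBaseChange F' f) {q : Ideal F}
    (hq : q ∈ associatedPrimes F M) : ∃ Q ∈ associatedPrimes F' M', Q.comap (algebraMap F F') = q := by
  classical
  obtain ⟨I, c, hc, hfin, hzero, hrange⟩ := exists_comps k K hf
  obtain ⟨hqp, m, hm⟩ := isAssociatedPrime_iff.1 hq
  have hmem : ∀ a : F, a ∈ q ↔ a • m = 0 := fun a => by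
    rw [hm, Submodule.mem_colon_singleton, Submodule.mem_bot]
  have hne : f m ≠ 0 := by
    intro h0
    have h1 : (1 : F') ⊗ₜ[F] m = 0 := hf.equiv.injective (by rw [hf.equiv_tmul, one_smul, h0, map_zero])
    have h2 := congrArg (Algebra.IsPushout.cancelBaseChange k K F F' M) h1
    rw [map_zero, ← map_one (algebraMap K F')] at h2
    have h3 : (1 : K) ⊗ₜ[k] m = 0 := by
      rw [← h2]
      apply (Algebra.IsPushout.cancelBaseChange k K F F' M).symm.injective
      rw [LinearEquiv.symm_apply_apply]
      simp
    let b := Module.Free.chooseBasis k K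
    have hm0 : m ≠ 0 := fun h => hqp.ne_top ((Ideal.eq_top_iff_one _).2 ((hmem 1).2 (by rw [h, smul_zero])))
    obtain ⟨i, hi⟩ : ∃ i, b.repr 1 i ≠ 0 := by
      by_contra! hall
      exact one_ne_zero (b.repr.map_eq_zero_iff.1 (Finsupp.ext hall))
    have h4 := congrArg (fun z => comps b z i) h3
    simp [comps] at h4
    exact h4.elim hi hm0
  let W : Submodule F' M' := Submodule.span F' {f m}
  haveI : Nontrivial W := ⟨⟨0, ⟨f m, Submodule.mem_span_singleton_self _⟩, fun h => hne (congrArg Subtype.val h).symm⟩⟩
  obtain ⟨Q, hQ⟩ := associatedPrimes.nonempty F' W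
  obtain ⟨hQp, ⟨x, hxW⟩, hx⟩ := isAssociatedPrime_iff.1 hQ
  haveI := hQp
  have hx' : ∀ r : F', r ∈ Q ↔ r • x = 0 := fun r => by
    rw [hx, Submodule.mem_colon_singleton, Submodule.mem_bot]
    exact ⟨fun h => congrArg Subtype.val h, fun h => Subtype.ext h⟩
  refine ⟨Q, isAssociatedPrime_iff.2 ⟨hQp, x, ?_⟩, ?_⟩
  · ext r
    rw [hx', Submodule.mem_colon_singleton, Submodule.mem_bot]
  obtain ⟨r, rfl⟩ := Submodule.mem_span_singleton.1 hxW
  ext a
  rw [Ideal.mem_comap, hx', algebraMap_smul]
  refine ⟨fun h => ?_, fun ha => ?_⟩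
  · obtain ⟨i, hi⟩ : ∃ i, c (r • f m) i ≠ 0 := by
      by_contra! hall
      refine hQp.ne_top ((Ideal.eq_top_iff_one _).2 ((hx' 1).2 ?_))
      rw [one_smul]
      exact hzero _ hall
    obtain ⟨a', ha'⟩ := hrange m r i
    rw [ha'] at hi
    refine (hqp.mem_or_mem ((hmem (a * a')).2 ?_)).resolve_right fun h => hi ((hmem a').1 h)
    rw [mul_smul, ← ha', ← hc, h, ← zero_smul F (0 : M'), hc, zero_smul]
  · rw [smul_comm a r, ← map_smul, (hmem a).1 ha, map_zero, smul_zero]

end GrothLib.RG6.Impure
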