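import Mathlib

/-!
# Cutting down to a quasi-finite point
-/

set_option autoImplicit false
set_option linter.style.haveILetI false
set_option linter.unusedSectionVars false

universe u

namespace GrothLib.RG6.Impure

variable {D : Type u} [CommRing D] [IsNoetherianRing D]

/-- Krull: nothing lies strictly between a prime and a prime minimal over it and one element. -/
theorem no_between {Q Q' μ : Ideal D} [Q.IsPrime] [μ.IsPrime] {x : D} (hQ' : Q' ∈ (Q ⊔ Ideal.span {x}).minimalPrimes)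
    (h1 : Q < μ) (h2 : μ < Q') : False := by
  haveI := hQ'.isPrime
  let π := Ideal.Quotient.mk Q
  have hs : Function.Surjective π := Ideal.Quotient.mk_surjective
  have hker : ∀ I : Ideal D, Q ≤ I → (I.map π).comap π = I := fun I hI => by
    rw [Ideal.comap_map_of_surjective π hs, ← RingHom.ker_eq_comap_bot, Ideal.mk_ker, sup_eq_left.2 hI]
  haveI : (μ.map π).IsPrime := Ideal.map_isPrime_of_surjective hs (Ideal.mk_ker.trans_le h1.le)
  haveI : (Q'.map π).IsPrime := Ideal.map_isPrime_of_surjective hs (Ideal.mk_ker.trans_le (h1.trans h2).le)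
  have hlt : μ.map π < Q'.map π := lt_of_le_of_ne (Ideal.map_mono h2.le) fun e => h2.ne (by
    rw [← hker μ h1.le, e, hker Q' (h1.trans h2).le])
  have hlt0 : (⊥ : Ideal (D ⧸ Q)) < μ.map π := bot_lt_iff_ne_bot.2 fun e => h1.ne (by
    rw [← hker μ h1.le, e, ← RingHom.ker_eq_comap_bot, Ideal.mk_ker])
  have hht := Ideal.map_height_le_one_of_mem_minimalPrimes hQ'
  have hb1 := Ideal.height_strict_mono_of_isPrime_of_isPrime hlt
  have hb0 := Ideal.height_strict_mono_of_isPrime_of_isPrime hlt0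
  have h3 : (μ.map π).height < 1 := hb1.trans_le hht
  rw [ENat.lt_one_iff_eq_zero] at h3
  rw [h3] at hb0
  exact not_lt_zero hb0

variable {A : Type u} [CommRing A] [Algebra A D] (p : Ideal A) (t : Ideal D) [t.IsPrime] [t.LiesOver p]

/-- Below a point there is a prime off `f` whose quotient has only that point above `p` below it. -/
theorem exists_cut [IsDomain D] {f : D} (hf : f ≠ 0) (hgen : ¬ (⊥ : Ideal D).LiesOver p) :
    ∃ Q : Ideal D, Q.IsPrime ∧ Q ≤ t ∧ f ∉ Q ∧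
      ∀ q : Ideal D, q.IsPrime → Q ≤ q → q ≤ t → q.LiesOver p → q = t := by
  obtain ⟨Q, ⟨hQp, hQt, hfQ, hQl⟩, hmax⟩ :
      ∃ Q : Ideal D, (Q.IsPrime ∧ Q ≤ t ∧ f ∉ Q ∧ ¬ Q.LiesOver p) ∧
        ∀ I : Ideal D, (I.IsPrime ∧ I ≤ t ∧ f ∉ I ∧ ¬ I.LiesOver p) → ¬ Q < I := set_has_maximal_iff_noetherian.mpr (inferInstance : IsNoetherian D D)
    {Q : Ideal D | Q.IsPrime ∧ Q ≤ t ∧ f ∉ Q ∧ ¬ Q.LiesOver p}
    ⟨⊥, Ideal.isPrime_bot, bot_le, fun h => hf h, hgen⟩
  haveI := hQp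
  refine ⟨Q, hQp, hQt, hfQ, fun q hq hQq hqt hql => ?_⟩
  by_contra hne
  haveI := hq
  haveI := hql
  have hQq' : Q < q := lt_of_le_of_ne hQq fun e => hQl (e ▸ hql)
  have hqt' : q < t := lt_of_le_of_ne hqt hne
  let I₁ : Ideal D := Q ⊔ Ideal.span {f}
  let I₂ : Ideal D := Q ⊔ p.map (algebraMap A D)
  have hqI : I₂ ≤ q := sup_le hQq (Ideal.map_le_iff_le_comap.2 (q.over_def p).le)
  have havoid : ∀ μ ∈ I₁.minimalPrimes ∪ I₂.minimalPrimes, ¬ t ≤ μ := by
    rintro μ (hμ | hμ) htμ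
    · by_cases hft : f ∈ t
      · have he : μ = t := le_antisymm (hμ.2 ⟨inferInstance, sup_le hQt ((Ideal.span_singleton_le_iff_mem t).2 hft)⟩ htμ) htμ
        exact no_between (he ▸ hμ) hQq' hqt'
      · exact hft (by
          have hqμ : q ≤ μ := hqt.trans htμ
          haveI := hμ.isPrime
          exact (no_between hμ hQq' (lt_of_le_of_ne hqμ fun e => hqt'.not_ge (e ▸ htμ))).elim)
    · exact hqt'.not_ge (htμ.trans ((hμ.2 ⟨inferInstance, hqI⟩ (hqt.trans htμ))))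
  obtain ⟨x, hxt, hx⟩ : ∃ x ∈ t, ∀ μ ∈ I₁.minimalPrimes ∪ I₂.minimalPrimes, x ∉ μ := by
    classical
    have hfin := (I₁.finite_minimalPrimes_of_isNoetherianRing).union I₂.finite_minimalPrimes_of_isNoetherianRing
    by_contra! hall
    obtain ⟨μ, hμ, hle⟩ := (Ideal.subset_union_prime (f := id) ⊥ ⊥ (s := hfin.toFinset)
      (fun μ hμ _ _ => ((hfin.mem_toFinset.1 hμ).elim (·.isPrime) (·.isPrime)))).1
      fun x hxt => by
        obtain ⟨μ, hμ, hxμ⟩ := hall x hxt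
        exact Set.mem_biUnion (Finset.mem_coe.2 (hfin.mem_toFinset.2 hμ)) hxμ
    exact havoid μ (hfin.mem_toFinset.1 hμ) hle
  obtain ⟨μ₂, hμ₂, -⟩ := Ideal.exists_minimalPrimes_le hqI
  haveI := hμ₂.isPrime
  have hxQ : x ∉ Q := fun h => hx μ₂ (Or.inr hμ₂) (hμ₂.le (Ideal.mem_sup_left h))
  obtain ⟨Q', hQ', hQ't⟩ := Ideal.exists_minimalPrimes_le
    (sup_le hQt ((Ideal.span_singleton_le_iff_mem t).2 hxt) : Q ⊔ Ideal.span {x} ≤ t)
  haveI := hQ'.isPrime
  have hxQ' : x ∈ Q' := hQ'.le (Ideal.mem_sup_right (Ideal.mem_span_singleton_self x))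
  have hlt : Q < Q' := lt_of_le_of_ne (le_sup_left.trans hQ'.le) fun e => hxQ (e ▸ hxQ')
  have hkey : ∀ (J : Ideal D), Q ⊔ J ≤ Q' → ¬ J ≤ Q → (∀ μ ∈ (Q ⊔ J).minimalPrimes, x ∉ μ) → False := by
    intro J hJ hJQ hxJ
    obtain ⟨μ, hμ, hμQ'⟩ := Ideal.exists_minimalPrimes_le hJ
    haveI := hμ.isPrime
    have h1 : Q < μ := lt_of_le_of_ne (le_sup_left.trans hμ.le) fun e => hJQ (e ▸ le_sup_right.trans hμ.le)
    have h2 : μ < Q' := lt_of_le_of_ne hμQ' fun e => hxJ μ hμ (e ▸ hxQ')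
    exact no_between hQ' h1 h2
  refine hmax Q' ⟨inferInstance, hQ't, fun hfQ' => ?_, fun hl => ?_⟩ hlt
  · exact hkey (Ideal.span {f}) (sup_le hlt.le ((Ideal.span_singleton_le_iff_mem _).2 hfQ'))
      (fun h => hfQ ((Ideal.span_singleton_le_iff_mem _).1 h)) fun μ hμ => hx μ (Or.inl hμ)
  · refine hkey (p.map (algebraMap A D)) (sup_le hlt.le (Ideal.map_le_iff_le_comap.2 hl.over.le)) (fun h => ?_)
      fun μ hμ => hx μ (Or.inr hμ)
    exact hQl ⟨le_antisymm (Ideal.map_le_iff_le_comap.1 h) ((Ideal.comap_mono hQt).trans (t.over_def p).ge)⟩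

/-- A point that is maximal and minimal in its fibre is quasi-finite. -/
theorem quasiFiniteAt_of_isolated [p.IsPrime] [Algebra.FiniteType A D]
    (hiso : ∀ q : Ideal D, q.IsPrime → q.LiesOver p → (q ≤ t ∨ t ≤ q) → q = t) :
    Algebra.QuasiFiniteAt A t := by
  let x : PrimeSpectrum D := ⟨t, inferInstance⟩
  refine Algebra.QuasiFiniteAt.of_isOpen_singleton_fiber x ?_
  let e := PrimeSpectrum.preimageHomeomorphFiber A D (x.comap (algebraMap A D))
  haveI := Algebra.FiniteType.isNoetherianRing (x.comap (algebraMap A D)).asIdeal.ResidueField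
    ((x.comap (algebraMap A D)).asIdeal.Fiber D)
  haveI : IsJacobsonRing ((x.comap (algebraMap A D)).asIdeal.Fiber D) :=
    isJacobsonRing_of_finiteType (A := (x.comap (algebraMap A D)).asIdeal.ResidueField)
  rw [← e.isOpen_image, Set.image_singleton]
  have hspec : ∀ y : PrimeSpectrum.comap (algebraMap A D) ⁻¹' {x.comap (algebraMap A D)},
      (y.1 ≤ x ∨ x ≤ y.1) → y = ⟨x, rfl⟩ := fun y hy => by
    refine Subtype.ext (PrimeSpectrum.ext (hiso y.1.asIdeal y.1.2 ⟨?_⟩ hy))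
    rw [t.over_def p]
    exact congrArg PrimeSpectrum.asIdeal y.2.symm
  refine ((PrimeSpectrum.isOpen_singleton_tfae_of_isNoetherian_of_isJacobsonRing (e ⟨x, rfl⟩)).out 0 2 rfl rfl).2 ⟨?_, ?_⟩
  · rw [← closure_subset_iff_isClosed]
    intro z hz
    obtain ⟨y, rfl⟩ := e.surjective z
    have h : x ⤳ y.1 := (subtype_specializes_iff _ _).1 (e.isInducing.specializes_iff.1 (specializes_iff_mem_closure.2 hz))
    rw [Set.mem_singleton_iff, hspec y (Or.inr ((PrimeSpectrum.le_iff_specializes _ _).2 h))]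
  · intro z w hzw hz
    obtain ⟨y, rfl⟩ := e.surjective w
    rw [Set.mem_singleton_iff] at hz ⊢
    subst hz
    have h : y.1 ⤳ x := (subtype_specializes_iff _ _).1 (e.isInducing.specializes_iff.1 hzw)
    rw [hspec y (Or.inl ((PrimeSpectrum.le_iff_specializes _ _).2 h))]

end GrothLib.RG6.Impure
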