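import Groth.Agent.Lib.RG6.Impure.Basic

/-!
# Impurities and closed immersions
-/

set_option autoImplicit false
set_option linter.style.haveILetI false
set_option linter.unusedSectionVars false

universe u

open TensorProduct

namespace GrothLib.RG6.Impure

/-- A base change along a pushout is a base change along the bottom map. -/
theorem isBaseChange_of_pushout {R S T U : Type u} [CommRing R] [CommRing S] [CommRing T] [CommRing U]
    [Algebra R S] [Algebra R T] [Algebra S U] [Algebra T U] [Algebra R U] [IsScalarTower R S U] [IsScalarTower R T U]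
    [Algebra.IsPushout R S T U] {M M' : Type u} [AddCommGroup M] [Module T M] [Module R M] [IsScalarTower R T M]
    [AddCommGroup M'] [Module U M'] [Module T M'] [IsScalarTower T U M'] [Module R M'] [IsScalarTower R T M']
    [Module S M'] [IsScalarTower R S M'] [IsScalarTower S U M'] {g : M →ₗ[T] M'} (hg : IsBaseChange U g) :
    IsBaseChange S (g.restrictScalars R) := by
  refine IsBaseChange.of_equiv ((Algebra.IsPushout.cancelBaseChange R S T U M).symm ≪≫ₗ
    hg.equiv.restrictScalars S) fun m => ?_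
  show hg.equiv ((Algebra.IsPushout.cancelBaseChange R S T U M).symm ((1 : S) ⊗ₜ[R] m)) = g m
  rw [Algebra.IsPushout.cancelBaseChange_symm_tmul, map_one, hg.equiv_tmul, one_smul]

/-- Associated primes of a module over a quotient ring. -/
theorem ass_of_surjective {F F' : Type u} [CommRing F] [CommRing F'] [Algebra F F'] [IsNoetherianRing F]
    [IsNoetherianRing F'] (hs : Function.Surjective (algebraMap F F')) (M : Type u) [AddCommGroup M] [Module F' M]
    [Module F M] [IsScalarTower F F' M] :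
    associatedPrimes F M = Ideal.comap (algebraMap F F') '' associatedPrimes F' M := by
  have hcolon : ∀ m : M, (⊥ : Submodule F M).colon {m} =
      ((⊥ : Submodule F' M).colon {m}).comap (algebraMap F F') := fun m => by
    ext a
    simp only [Ideal.mem_comap, Submodule.mem_colon_singleton, Submodule.mem_bot, algebraMap_smul]
  ext P
  refine ⟨fun h => ?_, ?_⟩
  · obtain ⟨hP, m, rfl⟩ := isAssociatedPrime_iff.1 h
    refine ⟨(⊥ : Submodule F' M).colon {m}, isAssociatedPrime_iff.2 ⟨?_, m, rfl⟩, (hcolon m).symm⟩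
    rw [hcolon m] at hP
    have h2 := Ideal.map_comap_of_surjective _ hs ((⊥ : Submodule F' M).colon {m})
    exact h2 ▸ Ideal.map_isPrime_of_surjective hs (Ideal.comap_mono bot_le)
  · rintro ⟨Q, hQ, rfl⟩
    obtain ⟨hQ', m, rfl⟩ := isAssociatedPrime_iff.1 hQ
    exact isAssociatedPrime_iff.2 ⟨Ideal.IsPrime.comap _, m, (hcolon m).symm⟩

attribute [local instance] Algebra.TensorProduct.rightAlgebra

variable {A' B' C' : Type u} [CommRing A'] [CommRing B'] [CommRing C'] [Algebra A' B'] [Algebra B' C'] [Algebra A' C']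
  [IsScalarTower A' B' C'] {NC : Type u} [AddCommGroup NC] [Module C' NC] [Module B' NC] [IsScalarTower B' C' NC]
  [Module A' NC] [IsScalarTower A' B' NC] [IsScalarTower A' C' NC]

theorem fibre_ass_surjective [Algebra.FiniteType A' B'] (hs : Function.Surjective (algebraMap B' C'))
    (t : Ideal A') [t.IsPrime] (P : Ideal B') [P.IsPrime] :
    (P.LiesOver t ∧ FlatCA.fiberIdeal t P ∈ associatedPrimes (t.Fiber B') (FlatCA.fiberMod t B' NC)) ↔
      ∃ (Pc : Ideal C') (_ : Pc.IsPrime), Pc.comap (algebraMap B' C') = P ∧ Pc.LiesOver t ∧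
        FlatCA.fiberIdeal t Pc ∈ associatedPrimes (t.Fiber C') (FlatCA.fiberMod t C' NC) := by
  haveI : Algebra.FiniteType A' C' := (‹Algebra.FiniteType A' B'›).of_surjective (IsScalarTower.toAlgHom A' B' C') hs
  haveI : IsNoetherianRing (t.Fiber B') := Algebra.FiniteType.isNoetherianRing t.ResidueField _
  haveI : IsNoetherianRing (t.Fiber C') := Algebra.FiniteType.isNoetherianRing t.ResidueField _
  let φ : t.Fiber B' →ₐ[t.ResidueField] t.Fiber C' :=
    Algebra.TensorProduct.map (AlgHom.id t.ResidueField t.ResidueField) (IsScalarTower.toAlgHom A' B' C')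
  letI : Algebra (t.Fiber B') (t.Fiber C') := φ.toRingHom.toAlgebra
  have hφ : Function.Surjective (algebraMap (t.Fiber B') (t.Fiber C')) := fun z => by
    induction z using TensorProduct.induction_on with
    | zero => exact ⟨0, map_zero _⟩
    | tmul x c =>
      obtain ⟨b, rfl⟩ := hs c
      exact ⟨x ⊗ₜ[A'] b, Algebra.TensorProduct.map_tmul _ _ _ _⟩
    | add x y hx hy =>
      obtain ⟨a, rfl⟩ := hx
      obtain ⟨b, rfl⟩ := hy
      exact ⟨a + b, map_add _ _ _⟩
  letI : Algebra B' (t.Fiber C') := ((algebraMap C' (t.Fiber C')).comp (algebraMap B' C')).toAlgebra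
  haveI : IsScalarTower B' C' (t.Fiber C') := .of_algebraMap_eq fun _ => rfl
  haveI : IsScalarTower B' (t.Fiber B') (t.Fiber C') := .of_algebraMap_eq fun b => rfl
  haveI : IsScalarTower A' B' (t.Fiber C') := .of_algebraMap_eq fun a => by
    show _ = algebraMap C' (t.Fiber C') (algebraMap B' C' (algebraMap A' B' a))
    rw [← IsScalarTower.algebraMap_apply A' B' C', ← IsScalarTower.algebraMap_apply A' C' (t.Fiber C')]
  haveI : IsScalarTower t.ResidueField (t.Fiber B') (t.Fiber C') := .of_algebraMap_eq fun x => (φ.commutes x).symm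
  haveI : IsScalarTower A' (t.Fiber B') (t.Fiber C') :=
    IsScalarTower.of_algebraMap_eq (R := A') (S := t.Fiber B') (A := t.Fiber C') fun a =>
      ((IsScalarTower.algebraMap_apply A' t.ResidueField (t.Fiber C') a).trans (φ.commutes _).symm).trans
        (congrArg φ (IsScalarTower.algebraMap_apply A' t.ResidueField (t.Fiber B') a).symm)
  haveI : Algebra.IsPushout A' B' t.ResidueField (t.Fiber B') := Algebra.IsPushout.symm inferInstance
  haveI hsq : Algebra.IsPushout B' C' (t.Fiber B') (t.Fiber C') :=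
    (Algebra.IsPushout.comp_iff A' B' t.ResidueField (t.Fiber B') (T := C') (T' := t.Fiber C')).1
      (Algebra.IsPushout.symm inferInstance)
  haveI : Algebra.IsPushout B' (t.Fiber B') C' (t.Fiber C') := hsq.symm
  letI : Module (t.Fiber B') (FlatCA.fiberMod t C' NC) := Module.compHom _ (algebraMap (t.Fiber B') (t.Fiber C'))
  haveI : IsScalarTower (t.Fiber B') (t.Fiber C') (FlatCA.fiberMod t C' NC) :=
    IsScalarTower.of_algebraMap_smul fun _ _ => rfl
  letI : Module B' (FlatCA.fiberMod t C' NC) := Module.compHom _ (algebraMap B' C')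
  haveI : IsScalarTower B' C' (FlatCA.fiberMod t C' NC) := IsScalarTower.of_algebraMap_smul fun _ _ => rfl
  haveI : IsScalarTower C' (t.Fiber C') (FlatCA.fiberMod t C' NC) :=
    inferInstanceAs (IsScalarTower C' (t.Fiber C') ((t.Fiber C') ⊗[C'] NC))
  haveI : IsScalarTower B' (t.Fiber B') (FlatCA.fiberMod t C' NC) := IsScalarTower.of_algebraMap_smul fun b x => by
    show algebraMap (t.Fiber B') (t.Fiber C') (algebraMap B' (t.Fiber B') b) • x = algebraMap B' C' b • x
    rw [← IsScalarTower.algebraMap_apply B' (t.Fiber B') (t.Fiber C'), IsScalarTower.algebraMap_apply B' C' (t.Fiber C'),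
      algebraMap_smul]
  let g : NC →ₗ[C'] FlatCA.fiberMod t C' NC := TensorProduct.mk C' (t.Fiber C') NC 1
  have hg : IsBaseChange (t.Fiber C') g := TensorProduct.isBaseChange C' NC (t.Fiber C')
  have hb : IsBaseChange (t.Fiber B') (g.restrictScalars B') := isBaseChange_of_pushout hg
  let e : FlatCA.fiberMod t B' NC ≃ₗ[t.Fiber B'] FlatCA.fiberMod t C' NC := hb.equiv
  have hass : associatedPrimes (t.Fiber B') (FlatCA.fiberMod t B' NC) =
      Ideal.comap (algebraMap (t.Fiber B') (t.Fiber C')) ''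
        associatedPrimes (t.Fiber C') (FlatCA.fiberMod t C' NC) := by
    rw [LinearEquiv.AssociatedPrimes.eq e, ass_of_surjective hφ]
  have hcomm : ∀ Q : Ideal (t.Fiber C'), (Q.comap (algebraMap C' (t.Fiber C'))).comap (algebraMap B' C') =
      (Q.comap (algebraMap (t.Fiber B') (t.Fiber C'))).comap (algebraMap B' (t.Fiber B')) := fun Q => by
    rw [Ideal.comap_comap, Ideal.comap_comap, ← IsScalarTower.algebraMap_eq B' C' (t.Fiber C'),
      ← IsScalarTower.algebraMap_eq B' (t.Fiber B') (t.Fiber C')]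
  refine ⟨fun ⟨hl, h⟩ => ?_, fun ⟨Pc, _, hc, hl, h⟩ => ?_⟩
  · rw [hass] at h
    obtain ⟨Q, hQ, e'⟩ := h
    haveI := hQ.isPrime
    haveI := hl
    refine ⟨Q.comap (algebraMap C' (t.Fiber C')), inferInstance, ?_,
      ⟨(GrothLib.WeakAssFib.comap_comap_toFib t Q).symm⟩, ?_⟩
    · rw [hcomm, e']
      exact GrothLib.WeakAssFib.comap_fiberIdeal t P
    · exact (GrothLib.WeakAssFib.fiberIdeal_comap t Q).symm ▸ hQ
  · haveI := hl
    haveI := h.isPrime
    let Qb := (FlatCA.fiberIdeal t Pc).comap (algebraMap (t.Fiber B') (t.Fiber C'))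
    have hQb : Qb.comap (algebraMap B' (t.Fiber B')) = P := by
      rw [← hcomm, ← hc]
      exact congrArg _ (GrothLib.WeakAssFib.comap_fiberIdeal t Pc)
    obtain ⟨hl', hf⟩ := (mem_fibre_iff t P).2 hQb
    exact ⟨hl', by rw [hass, hf]; exact ⟨_, h, rfl⟩⟩

variable {A B C : Type u} [CommRing A] [CommRing B] [CommRing C] [Algebra A B] [Algebra B C] [Algebra A C]
  [IsScalarTower A B C] [Algebra.FiniteType A B] {N : Type u} [AddCommGroup N] [Module C N] [Module B N]
  [IsScalarTower B C N] {p : Ideal A} [p.IsPrime]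

omit [Algebra A' B'] [Algebra B' C'] [Algebra A' C'] [IsScalarTower A' B' C'] [AddCommGroup NC] in
/-- Impurities on the two sides of a closed immersion correspond. -/
theorem hasImpurity_surjective_iff (hBC : Function.Surjective (algebraMap B C))
    (Q : ∀ (A' : Type u) [CommRing A'] [Algebra A A'], Ideal A' → Prop) :
    FlatCA.HasImpurity A C N p Q ↔ FlatCA.HasImpurity A B N p Q := by
  suffices key : ∀ (A' B' C' NB NC : Type u) [CommRing A'] [CommRing B'] [CommRing C'] [Algebra A A']
      [Algebra B B'] [Algebra A' B'] [Algebra A B'] [IsScalarTower A B B'] [IsScalarTower A A' B']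
      [AddCommGroup NB] [Module B' NB] [Module B NB] [IsScalarTower B B' NB] [Module A' NB] [IsScalarTower A' B' NB]
      [Algebra C C'] [Algebra A' C'] [Algebra A C'] [IsScalarTower A C C'] [IsScalarTower A A' C']
      [AddCommGroup NC] [Module C' NC] [Module C NC] [IsScalarTower C C' NC] [Module A' NC] [IsScalarTower A' C' NC]
      (fB : N →ₗ[B] NB) (fC : N →ₗ[C] NC), Algebra.IsPushout A B A' B' → IsBaseChange B' fB →
      Algebra.IsPushout A C A' C' → IsBaseChange C' fC → ∀ (t' t : Ideal A') [t'.IsPrime] [t.IsPrime],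
      (∃ (P : Ideal B') (_ : P.IsPrime), FlatCA.IsImpurity A B N p A' B' NB fB t' t P) ↔
      (∃ (P : Ideal C') (_ : P.IsPrime), FlatCA.IsImpurity A C N p A' C' NC fC t' t P) by
    constructor
    · rintro ⟨A', C', NC, _, _, _, _, _, _, _, _, _, _, _, _, _, _, fC, t', t, _, _, P, _, himp, hQ⟩
      obtain ⟨B', NB, _, _, _, _, _, _, _, _, _, _, _, _, fB, hpo, hf⟩ := exists_data A B N A'
      obtain ⟨PB, _, hPB⟩ := (key A' B' C' NB NC fB fC hpo hf himp.1 himp.2.1 t' t).2 ⟨P, ‹_›, himp⟩
      exact ⟨A', B', NB, _, _, _, _, _, _, ‹_›, ‹_›, _, _, _, ‹_›, _, ‹_›, fB, t', t, ‹_›, ‹_›, PB, ‹_›, hPB, hQ⟩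
    · rintro ⟨A', B', NB, _, _, _, _, _, _, _, _, _, _, _, _, _, _, fB, t', t, _, _, P, _, himp, hQ⟩
      obtain ⟨C', NC, _, _, _, _, _, _, _, _, _, _, _, _, fC, hpo, hf⟩ := exists_data A C N A'
      obtain ⟨PC, _, hPC⟩ := (key A' B' C' NB NC fB fC himp.1 himp.2.1 hpo hf t' t).1 ⟨P, ‹_›, himp⟩
      exact ⟨A', C', NC, _, _, _, _, _, _, ‹_›, ‹_›, _, _, _, ‹_›, _, ‹_›, fC, t', t, ‹_›, ‹_›, PC, ‹_›, hPC, hQ⟩
  intro A' B' C' NB NC _ _ _ _ _ _ _ _ _ _ _ _ _ _ _ _ _ _ _ _ _ _ _ _ _ _ fB fC hpoB hfB hpoC hfC t' t _ _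
  haveI := hpoB
  letI : Algebra B C' := ((algebraMap C C').comp (algebraMap B C)).toAlgebra
  haveI : IsScalarTower B C C' := .of_algebraMap_eq fun _ => rfl
  haveI : IsScalarTower A B C' := .of_algebraMap_eq fun x => by
    show _ = algebraMap C C' (algebraMap B C (algebraMap A B x))
    rw [← IsScalarTower.algebraMap_apply A B C, ← IsScalarTower.algebraMap_apply A C C']
  let β : B' →ₐ[A] C' := Algebra.pushoutDesc (R := A) (R' := A') B' (IsScalarTower.toAlgHom A B C')
    (IsScalarTower.toAlgHom A A' C') fun _ _ => Commute.all _ _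
  letI : Algebra B' C' := β.toRingHom.toAlgebra
  haveI : IsScalarTower A' B' C' := .of_algebraMap_eq fun x => by
    show _ = β _
    exact (Algebra.pushoutDesc_right (R := A) B' (IsScalarTower.toAlgHom A B C')
      (IsScalarTower.toAlgHom A A' C') (fun _ _ => Commute.all _ _) x).symm
  haveI : IsScalarTower B B' C' := .of_algebraMap_eq fun x => by
    show _ = β _
    exact (Algebra.pushoutDesc_left (R := A) (R' := A') B' (IsScalarTower.toAlgHom A B C')
      (IsScalarTower.toAlgHom A A' C') (fun _ _ => Commute.all _ _) x).symm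
  haveI : IsScalarTower A B' C' := .of_algebraMap_eq fun x => (β.commutes x).symm
  have hs : Function.Surjective (algebraMap B' C') := by
    intro c
    refine hpoC.out.inductionOn c _ ⟨0, map_zero _⟩ (fun a => ⟨algebraMap A' B' a, ?_⟩) ?_ ?_
    · exact (IsScalarTower.algebraMap_apply A' B' C' a).symm
    · rintro x n ⟨y, hy⟩
      obtain ⟨b, rfl⟩ := hBC x
      exact ⟨algebraMap B B' b * y, by
        rw [map_mul, ← IsScalarTower.algebraMap_apply B B' C', hy, Algebra.smul_def,
          IsScalarTower.algebraMap_apply B C C']⟩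
    · rintro x y ⟨a, rfl⟩ ⟨b, rfl⟩
      exact ⟨a + b, map_add _ _ _⟩
  haveI hsq : Algebra.IsPushout B C B' C' :=
    (Algebra.IsPushout.comp_iff A B A' B' (T := C) (T' := C')).1 hpoC
  haveI : Algebra.IsPushout B B' C C' := hsq.symm
  letI : Module B NC := Module.compHom NC (algebraMap B C)
  haveI : IsScalarTower B C NC := IsScalarTower.of_algebraMap_smul fun _ _ => rfl
  letI : Module B' NC := Module.compHom NC (algebraMap B' C')
  haveI : IsScalarTower B' C' NC := IsScalarTower.of_algebraMap_smul fun _ _ => rfl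
  haveI : IsScalarTower B B' NC := IsScalarTower.of_algebraMap_smul fun b x => by
    show algebraMap B' C' (algebraMap B B' b) • x = algebraMap B C b • x
    rw [← IsScalarTower.algebraMap_apply B B' C', IsScalarTower.algebraMap_apply B C C', algebraMap_smul]
  haveI : IsScalarTower A' B' NC := IsScalarTower.of_algebraMap_smul fun a x => by
    show algebraMap B' C' (algebraMap A' B' a) • x = a • x
    rw [← IsScalarTower.algebraMap_apply A' B' C', algebraMap_smul]
  have hfC' : IsBaseChange B' (fC.restrictScalars B) := isBaseChange_of_pushout hfC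
  haveI := finiteType_baseChange hpoB
  let ψ : NB ≃ₗ[B'] NC := hfB.equiv.symm ≪≫ₗ hfC'.equiv
  let e := (ψ.baseChange B' (t'.Fiber B') NB NC : (t'.Fiber B') ⊗[B'] NB ≃ₗ[t'.Fiber B'] (t'.Fiber B') ⊗[B'] NC)
  have hassB : associatedPrimes (t'.Fiber B') (FlatCA.fiberMod t' B' NB) =
      associatedPrimes (t'.Fiber B') (FlatCA.fiberMod t' B' NC) := LinearEquiv.AssociatedPrimes.eq e
  have hover : ∀ (X : Ideal C') (t₀ : Ideal A'), X.LiesOver t₀ ↔ (X.comap (algebraMap B' C')).LiesOver t₀ := fun X t₀ => by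
    have : X.under A' = (X.comap (algebraMap B' C')).under A' := by
      show Ideal.comap _ _ = Ideal.comap _ (Ideal.comap _ _)
      rw [Ideal.comap_comap, ← IsScalarTower.algebraMap_eq]
    exact ⟨fun h => ⟨h.over.trans this⟩, fun h => ⟨h.over.trans this.symm⟩⟩
  constructor
  · rintro ⟨P, _, -, -, hle, ht, hP, hass, hmiss⟩
    obtain ⟨Pc, _, hc, hl, hassC⟩ := (fibre_ass_surjective hs t' P).1 ⟨hP, hassB ▸ hass⟩
    refine ⟨Pc, ‹_›, hpoC, hfC, hle, ht, hl, hassC, fun P' _ hP' ho => ?_⟩
    exact hmiss (P'.comap (algebraMap B' C')) (hc ▸ Ideal.comap_mono hP') ((hover P' t).1 ho)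
  · rintro ⟨Pc, _, -, -, hle, ht, hP, hass, hmiss⟩
    obtain ⟨hl, hassB'⟩ := (fibre_ass_surjective hs t' (Pc.comap (algebraMap B' C'))).2 ⟨Pc, ‹_›, rfl, hP, hass⟩
    refine ⟨Pc.comap (algebraMap B' C'), inferInstance, hpoB, hfB, hle, ht, hl, hassB.symm ▸ hassB', fun P' _ hP' ho => ?_⟩
    have hker : RingHom.ker (algebraMap B' C') ≤ P' := (Ideal.comap_mono bot_le).trans hP'
    haveI := Ideal.map_isPrime_of_surjective hs hker
    have hcm : (P'.map (algebraMap B' C')).comap (algebraMap B' C') = P' := by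
      rw [Ideal.comap_map_of_surjective _ hs, ← RingHom.ker_eq_comap_bot, sup_eq_left.2 hker]
    refine hmiss (P'.map (algebraMap B' C')) ?_ ((hover _ t).2 (hcm.symm ▸ ho))
    rw [← Ideal.map_comap_of_surjective _ hs Pc]
    exact Ideal.map_mono hP'

end GrothLib.RG6.Impure
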