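import Groth.Agent.Lib.RG6.Impure.Basic

/-!
# Purity of modules with finite fibre supports
-/

set_option autoImplicit false
set_option linter.style.haveILetI false
set_option linter.unusedSectionVars false

universe u

open TensorProduct

namespace GrothLib.RG6.Impure

/-- A point of the support gives a point of the support of the fibre module. -/
theorem annihilator_fiber_le {D B' N' : Type u} [CommRing D] [CommRing B'] [Algebra D B'] [AddCommGroup N']
    [Module B' N'] [Module D N'] [IsScalarTower D B' N'] (t : Ideal D) [t.IsPrime] (Q : Ideal B') [Q.IsPrime]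
    [Q.LiesOver t] (hnt : Nontrivial (Q.ResidueField ⊗[B'] N')) :
    Module.annihilator (t.Fiber B') (FlatCA.fiberMod t B' N') ≤ FlatCA.fiberIdeal t Q := by
  intro e he
  by_contra hne
  obtain ⟨r, hr, b, hrb⟩ := Ideal.Fiber.exists_smul_eq_one_tmul t e
  have hb : b ∉ Q := fun h => hne (by
    have h1 : GrothLib.WeakAssFib.toFib t b ∈ FlatCA.fiberIdeal t Q := Ideal.mem_map_of_mem _ h
    rw [show GrothLib.WeakAssFib.toFib t b = (1 : t.ResidueField) ⊗ₜ[D] b from rfl, ← hrb, Algebra.smul_def] at h1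
    exact (Ideal.unit_mul_mem_iff_mem _ (GrothLib.WeakAssFib.isUnit_toFib t hr)).1 h1)
  obtain ⟨ε, hε⟩ := GrothLib.WeakAssFib.exists_fibreEquiv t (S := B') N'
  letI : Algebra t.ResidueField Q.ResidueField :=
    (Ideal.ResidueField.map t Q (algebraMap D B') (Q.over_def t)).toAlgebra
  haveI : IsScalarTower D t.ResidueField Q.ResidueField := .of_algebraMap_eq fun x => by
    rw [IsScalarTower.algebraMap_apply D B' Q.ResidueField]
    exact (Ideal.ResidueField.map_algebraMap _ _ _ _ x).symm
  have hzero : ∀ n : N', (1 : Q.ResidueField) ⊗ₜ[B'] n = 0 := by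
    intro n
    have h0 : b • (n ⊗ₜ[D] (1 : t.ResidueField)) = 0 := ε.map_eq_zero_iff.1 (by
      rw [hε, show GrothLib.WeakAssFib.toFib t b = (1 : t.ResidueField) ⊗ₜ[D] b from rfl, ← hrb, Algebra.smul_def,
        mul_smul, Module.mem_annihilator.1 he, smul_zero])
    rw [smul_tmul'] at h0
    obtain ⟨v, hv, hmem⟩ := GrothLib.WeakAssFib.exists_smul_mem_of_tmul_one_eq_zero t h0
    have h1 : (1 : Q.ResidueField) ⊗ₜ[B'] (v • (b • n)) = 0 := by
      refine Submodule.smul_induction_on (p := fun z => (1 : Q.ResidueField) ⊗ₜ[B'] z = 0) hmem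
        (fun a ha z _ => ?_) fun x y hx hy => by rw [tmul_add, hx, hy, add_zero]
      rw [← algebraMap_smul B' a z, ← smul_tmul, ← Algebra.algebraMap_eq_smul_one,
        Ideal.algebraMap_residueField_eq_zero.2 ((Ideal.mem_of_liesOver Q t a).1 ha), zero_tmul]
    rw [← algebraMap_smul B' v, smul_smul, ← smul_tmul, ← Algebra.algebraMap_eq_smul_one] at h1
    have hu : algebraMap B' Q.ResidueField (algebraMap D B' v * b) ≠ 0 := fun h =>
      (‹Q.IsPrime›.mem_or_mem (Ideal.algebraMap_residueField_eq_zero.1 h)).elim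
        (fun h' => hv ((Ideal.mem_of_liesOver Q t v).2 h')) hb
    rw [← mul_one (algebraMap B' Q.ResidueField _), ← smul_eq_mul, ← smul_tmul'] at h1
    exact (smul_eq_zero.1 h1).resolve_left hu
  refine not_subsingleton_iff_nontrivial.2 hnt ⟨fun x y => ?_⟩
  have hall : ∀ z : Q.ResidueField ⊗[B'] N', z = 0 := fun z => by
    induction z using TensorProduct.induction_on with
    | zero => rfl
    | add x y hx hy => rw [hx, hy, add_zero]
    | tmul c n => rw [← mul_one c, ← smul_eq_mul, ← smul_tmul', hzero, smul_zero]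
  rw [hall x, hall y]

theorem nontrivial_residue {C N C' N' : Type u} [CommRing C] [AddCommGroup N] [Module C N] [Module.Finite C N]
    [CommRing C'] [Algebra C C'] [AddCommGroup N'] [Module C' N'] [Module C N'] [IsScalarTower C C' N']
    {f : N →ₗ[C] N'} (hf : IsBaseChange C' f) (Q : Ideal C') [Q.IsPrime]
    (hq : Module.annihilator C N ≤ Q.comap (algebraMap C C')) : Nontrivial (Q.ResidueField ⊗[C'] N') := by
  let q := Q.comap (algebraMap C C')
  letI : Algebra q.ResidueField Q.ResidueField := (Ideal.ResidueField.map q Q (algebraMap C C') rfl).toAlgebra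
  haveI : IsScalarTower C q.ResidueField Q.ResidueField := .of_algebraMap_eq fun x => by
    rw [IsScalarTower.algebraMap_apply C C' Q.ResidueField]
    exact (Ideal.ResidueField.map_algebraMap _ _ _ _ x).symm
  haveI : Nontrivial (q.ResidueField ⊗[C] N) :=
    (Module.mem_support_iff_nontrivial_residueField_tensorProduct (R := C) (M := N) (⟨q, inferInstance⟩ : PrimeSpectrum C)).1
      (Module.mem_support_iff_of_finite.2 hq)
  haveI : Nontrivial (Q.ResidueField ⊗[C] N) :=
    (TensorProduct.AlgebraTensorModule.cancelBaseChange C q.ResidueField Q.ResidueField Q.ResidueField N).symm.toEquiv.nontrivial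
  exact (hf.tensorEquiv Q.ResidueField).toEquiv.nontrivial

variable {A C : Type u} [CommRing A] [CommRing C] [Algebra A C] [Algebra.FiniteType A C] [Algebra.QuasiFinite A C]
  {N : Type u} [AddCommGroup N] [Module C N] [Module.Finite C N]

/-- A quasi-finite support which is pure is finite. -/
theorem finite_of_isPure (hann : Module.annihilator C N = ⊥) (hpure : FlatCA.IsPure A C N) : Module.Finite A C := by
  classical
  have hZ : ∀ (q : Ideal C) [q.IsPrime], ∃ r ∉ q, IsIntegral A r ∧ ∀ x, ∃ m, IsIntegral A (r ^ m * x) :=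
    fun q _ => Algebra.zariskisMainProperty_iff.1 (Algebra.ZariskisMainProperty.of_finiteType q)
  choose r hr hri hrx using hZ
  have hspan : Ideal.span (Set.range fun q : PrimeSpectrum C => r q.asIdeal) = ⊤ := by
    by_contra h
    obtain ⟨m, hm, hle⟩ := Ideal.exists_le_maximal _ h
    exact hr m (hle (Ideal.subset_span ⟨⟨m, hm.isPrime⟩, rfl⟩))
  obtain ⟨S, hS, hS1⟩ := Submodule.mem_span_finite_of_mem_span ((Ideal.eq_top_iff_one _).1 hspan)
  obtain ⟨G, hG⟩ := (inferInstance : Algebra.FiniteType A C).out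
  have hrS : ∀ s ∈ S, ∃ q : PrimeSpectrum C, r q.asIdeal = s := fun s hs => hS hs
  choose qs hqs using hrS
  have hrx' : ∀ s ∈ S, ∀ x, ∃ m, IsIntegral A (s ^ m * x) := fun s hs x => hqs s hs ▸ hrx (qs s hs).asIdeal x
  choose m hm using hrx'
  let T : Set C := (S : Set C) ∪ Set.range fun a : {x // x ∈ S} × {x // x ∈ G} => (a.1 : C) ^ (m _ a.1.2 a.2) * (a.2 : C)
  have hTfin : T.Finite := S.finite_toSet.union (Set.finite_range _)
  let F := Algebra.adjoin A T
  haveI hFfin : Module.Finite A F := Module.Finite.iff_fg.2 (fg_adjoin_of_finite hTfin (by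
    rintro x (hx | ⟨⟨⟨s, hs⟩, ⟨y, hy⟩⟩, rfl⟩)
    · rw [← hqs x hx]
      exact hri _
    · exact hm s hs y))
  let s' : {x // x ∈ S} → F := fun s => ⟨s.1, Algebra.subset_adjoin (Or.inl s.2)⟩
  by_cases htop : Ideal.span (Set.range s') = ⊤
  · -- the finite subalgebra is everything
    suffices hF : F = ⊤ from Module.Finite.equiv ((Subalgebra.equivOfEq F ⊤ hF).trans Subalgebra.topEquiv).toLinearEquiv
    refine top_le_iff.1 (hG.ge.trans (Algebra.adjoin_le fun x hx => ?_))
    let M : Submodule F C := LinearMap.range (Algebra.linearMap F C)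
    have hxM : x ∈ M := by
      refine Submodule.mem_of_span_eq_top_of_smul_pow_mem M _ htop x ?_
      rintro ⟨_, ⟨s, hs⟩, rfl⟩
      exact ⟨m s hs x, ⟨⟨_, Algebra.subset_adjoin (Or.inr ⟨(⟨s, hs⟩, ⟨x, hx⟩), rfl⟩)⟩, rfl⟩⟩
    obtain ⟨y, rfl⟩ := hxM
    exact y.2
  exfalso
  obtain ⟨u, hu, hule⟩ := Ideal.exists_le_maximal _ htop
  haveI := hu.isPrime
  let p := u.comap (algebraMap A F)
  haveI : u.LiesOver p := ⟨rfl⟩
  haveI : Algebra.QuasiFiniteAt A u := inferInstance
  obtain ⟨R', _, _, _, r', _, _, e, he, U, _, hUr, hU, heU, hbij, -, huniq⟩ :=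
    Algebra.exists_etale_isIdempotentElem_forall_liesOver_eq p u
  obtain ⟨v, hv, hvU⟩ := Ideal.exists_minimalPrimes_le (bot_le : (⊥ : Ideal (R' ⊗[A] F)) ≤ U)
  haveI := hv.isPrime
  obtain ⟨C', N', _, _, _, _, _, _, _, _, _, _, _, _, f, hpo, hf⟩ := exists_data A C N R'
  haveI : Algebra.IsPushout A R' C C' := hpo.symm
  haveI := finiteType_baseChange hpo
  haveI : Module.Finite C' N' := Module.Finite.equiv hf.equiv
  haveI : Algebra.QuasiFinite R' C' :=
    (Algebra.QuasiFinite.iff_of_algEquiv (Algebra.IsPushout.equiv A R' C C')).1 inferInstance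
  let ι : R' ⊗[A] F →ₐ[R'] C' := (Algebra.IsPushout.equiv A R' C C').toAlgHom.comp
    (Algebra.TensorProduct.map (AlgHom.id R' R') F.val)
  have hinj : Function.Injective ι := (Algebra.IsPushout.equiv A R' C C').injective.comp
    (Module.Flat.lTensor_preserves_injective_linearMap (M := R') F.val.toLinearMap Subtype.val_injective)
  obtain ⟨Q, hQ, hQv⟩ := Ideal.exists_comap_eq_of_mem_minimalPrimes_of_injective (f := ι.toRingHom) hinj v hv
  haveI := hQ
  let t' := Q.comap (algebraMap R' C')
  haveI : Q.LiesOver t' := ⟨rfl⟩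
  have ht'v : t' = v.comap (algebraMap R' (R' ⊗[A] F)) := by
    rw [← hQv, Ideal.comap_comap]
    exact congrArg (fun g => Ideal.comap g Q) ι.comp_algebraMap.symm
  have ht'r : t' ≤ r' := by
    rw [ht'v, hUr.over]
    exact Ideal.comap_mono hvU
  have hev : e ∉ v := fun h => heU (hvU h)
  have hmiss : ∀ (Q' : Ideal C') [Q'.IsPrime], Q ≤ Q' → ¬ Q'.LiesOver r' := by
    intro Q' _ hle hover
    let w := Q'.comap ι.toRingHom
    have hvw : v ≤ w := hQv ▸ Ideal.comap_mono hle
    haveI : w.LiesOver r' := ⟨by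
      rw [hover.over]
      show _ = Ideal.comap _ (Ideal.comap _ Q')
      rw [Ideal.comap_comap]
      exact congrArg (fun g => Ideal.comap g Q') ι.comp_algebraMap.symm⟩
    have hew : e ∉ w := fun h => by
      have hmul : e * (1 - e) = 0 := by rw [mul_sub, mul_one, he.eq, sub_self]
      have h1 : 1 - e ∈ v := ((‹v.IsPrime›).mem_or_mem (hmul ▸ zero_mem v)).resolve_left hev
      exact (inferInstance : w.IsPrime).ne_top ((Ideal.eq_top_iff_one _).2
        (by simpa using add_mem (hvw h1) h))
    have hwU : w = U := huniq w inferInstance inferInstance hew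
    let qC := Q'.comap (algebraMap C C')
    have hqu : qC.comap (algebraMap F C) = u := by
      rw [← hU, ← hwU]
      show Ideal.comap _ (Ideal.comap _ Q') = Ideal.comap _ (Ideal.comap _ Q')
      rw [Ideal.comap_comap, Ideal.comap_comap]
      congr 1
      refine RingHom.ext fun x => ?_
      show algebraMap C C' (x : C) = Algebra.IsPushout.equiv A R' C C' ((1 : R') ⊗ₜ[A] (x : C))
      rw [Algebra.IsPushout.equiv_tmul, map_one, one_mul]
    have hSq : ∀ s ∈ S, s ∈ qC := fun s hs => by
      have h1 : s' ⟨s, hs⟩ ∈ u := hule (Ideal.subset_span ⟨⟨s, hs⟩, rfl⟩)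
      rw [← hqu] at h1
      exact h1
    exact (Ideal.IsPrime.comap (algebraMap C C') (K := Q')).ne_top
      ((Ideal.eq_top_iff_one _).2 ((Ideal.span_le (I := qC)).2 hSq hS1))
  have hass : FlatCA.fiberIdeal t' Q ∈ associatedPrimes (t'.Fiber C') (FlatCA.fiberMod t' C' N') := by
    haveI : IsNoetherianRing (t'.Fiber C') := Algebra.FiniteType.isNoetherianRing t'.ResidueField _
    haveI : Module.Finite (t'.Fiber C') (FlatCA.fiberMod t' C' N') := by
      letI : Algebra C' (t'.Fiber C') := Algebra.TensorProduct.rightAlgebra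
      exact inferInstanceAs (Module.Finite (t'.Fiber C') ((t'.Fiber C') ⊗[C'] N'))
    haveI hQp := GrothLib.RG6.isPrime_fiberIdeal t' Q
    refine Module.associatedPrimes.minimalPrimes_annihilator_subset_associatedPrimes _ _
      ⟨⟨hQp, annihilator_fiber_le t' Q (nontrivial_residue hf Q (hann.trans_le bot_le))⟩, fun J hJ hJle => ?_⟩
    haveI := hJ.1
    haveI : (J.comap (GrothLib.WeakAssFib.toFib t')).LiesOver t' := ⟨(GrothLib.WeakAssFib.comap_comap_toFib t' J).symm⟩
    have hle2 : J.comap (GrothLib.WeakAssFib.toFib t') ≤ Q :=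
      (Ideal.comap_mono hJle).trans (GrothLib.WeakAssFib.comap_fiberIdeal t' Q).le
    have heq := Algebra.QuasiFiniteAt.eq_of_le_of_under_eq (R := R') hle2
      (((J.comap (GrothLib.WeakAssFib.toFib t')).over_def t').symm.trans (Q.over_def t'))
    rw [← GrothLib.WeakAssFib.fiberIdeal_comap t' J, heq]
  exact hpure p R' C' N' f t' r' Q ⟨inferInstance, inferInstance, hbij⟩
    ⟨hpo, hf, ht'r, inferInstance, inferInstance, hass, hmiss⟩

end GrothLib.RG6.Impure
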