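import Groth.Agent.Lib.RG6.Impure.Basic

/-!
# Impurities over quasi-finite base changes come from étale neighbourhoods
-/

set_option autoImplicit false
set_option linter.style.haveILetI false
set_option linter.unusedSectionVars false

universe u

open TensorProduct

namespace GrothLib.RG6.Impure

variable {A B : Type u} [CommRing A] [CommRing B] [Algebra A B] [Algebra.FiniteType A B]
  {N : Type u} [AddCommGroup N] [Module B N] {p : Ideal A} [p.IsPrime]
  {A' B' N' : Type u} [CommRing A'] [CommRing B'] [Algebra A A'] [Algebra B B'] [Algebra A' B'] [Algebra A B']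
  [IsScalarTower A B B'] [IsScalarTower A A' B'] [AddCommGroup N'] [Module B' N'] [Module B N']
  [IsScalarTower B B' N'] [Module A' N'] [IsScalarTower A' B' N'] {f : N →ₗ[B] N'}

attribute [local instance] Algebra.TensorProduct.rightAlgebra

theorem etaleNhd_of_qf [Algebra.FiniteType A A'] {t' t : Ideal A'} [t'.IsPrime] [t.IsPrime]
    [Algebra.QuasiFiniteAt A t] {P : Ideal B'} [P.IsPrime]
    (himp : FlatCA.IsImpurity A B N p A' B' N' f t' t P) :
    FlatCA.HasImpurity A B N p (fun A'' _ _ t'' => ∃ _ : t''.IsPrime, FlatCA.IsEtaleNhd A A'' p t'') := by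
  haveI := himp.2.2.2.1
  obtain ⟨R', _, _, _, r, _, _, e, he, u, _, hur, hu, heu, hbij, hfin, huniq⟩ :=
    Algebra.exists_etale_isIdempotentElem_forall_liesOver_eq p t
  -- the finite part `C`
  let C := Localization.Away e
  haveI : Algebra.IsPushout A A' R' (R' ⊗[A] A') := inferInstance
  haveI : Module.Flat A' (R' ⊗[A] A') := Module.Flat.isBaseChange A A' R' _ this.out
  haveI : Module.Flat A' C := Module.Flat.trans A' (R' ⊗[A] A') C
  have hdis : Disjoint (Submonoid.powers e : Set (R' ⊗[A] A')) u := by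
    rwa [Ideal.disjoint_powers_iff_notMem_of_isPrime]
  let uC : Ideal C := u.map (algebraMap (R' ⊗[A] A') C)
  haveI : uC.IsPrime := IsLocalization.isPrime_of_isPrime_disjoint (.powers e) _ _ ‹_› hdis
  have huC : uC.comap (algebraMap (R' ⊗[A] A') C) = u :=
    IsLocalization.comap_map_of_isPrime_disjoint (.powers e) C ‹_› hdis
  haveI : uC.LiesOver t := ⟨by
    show t = uC.comap (algebraMap A' C)
    rw [IsScalarTower.algebraMap_eq A' (R' ⊗[A] A') C, ← Ideal.comap_comap, huC]
    exact hu.symm⟩
  have huCr : uC.comap (algebraMap R' C) = r := by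
    rw [IsScalarTower.algebraMap_eq R' (R' ⊗[A] A') C, ← Ideal.comap_comap, huC]
    exact hur.over.symm
  obtain ⟨c', hc'le, _, _⟩ := Ideal.exists_ideal_le_liesOver_of_le (p := t') (q := t) uC himp.2.2.1
  -- the impurity over `C`
  haveI : IsScalarTower A A' C := .of_algebraMap_eq fun x => by
    rw [IsScalarTower.algebraMap_apply A (R' ⊗[A] A') C, IsScalarTower.algebraMap_apply A' (R' ⊗[A] A') C,
      ← IsScalarTower.algebraMap_apply A A' (R' ⊗[A] A')]
  obtain ⟨BC, NC, _, _, _, _, _, _, _, _, _, _, _, _, fC, hpoC, hfC⟩ := exists_data A B N C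
  obtain ⟨Q, _, hQimp⟩ := impurity_up hpoC hfC himp c' uC hc'le
  obtain ⟨-, -, -, -, hQ, hass, hmiss⟩ := hQimp
  -- down to `R'`
  obtain ⟨BR, NR, _, _, _, _, _, _, _, _, _, _, _, _, fR, hpoR, hfR⟩ := exists_data A B N R'
  obtain ⟨_, _, _, _, _, hsq, _, _, φ, hφ, -⟩ := exists_map hpoR hfR hpoC hfC
  haveI : Module.Finite R' C := hfin
  haveI : Algebra.IsPushout R' BR C BC := hsq.symm
  haveI : Module.Finite BR BC := Module.Finite.equiv (Algebra.IsPushout.equiv R' BR C BC).toLinearEquiv
  have himpR : FlatCA.IsImpurity A B N p R' BR NR fR (c'.comap (algebraMap R' C)) r (Q.comap (algebraMap BR BC)) := by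
    refine impurity_down hφ hpoR hfR hQ hass r (huCr ▸ Ideal.comap_mono hc'le) fun P'' _ hle hover => ?_
    obtain ⟨Q'', hQle, _, hQ''⟩ := Ideal.exists_ideal_over_prime_of_isIntegral P'' Q hle
    have hr : Q''.comap (algebraMap R' BC) = r := by
      rw [IsScalarTower.algebraMap_eq R' BR BC, ← Ideal.comap_comap, hQ'']
      exact hover.over.symm
    refine hmiss Q'' hQle ⟨?_⟩
    let q := Q''.comap (algebraMap C BC)
    show uC = q
    have hqu : q.comap (algebraMap (R' ⊗[A] A') C) = u := by
      refine huniq _ (Ideal.IsPrime.comap _) ⟨?_⟩ fun hmem => ?_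
      · show r = Ideal.comap _ (Ideal.comap _ q)
        rw [Ideal.comap_comap, ← IsScalarTower.algebraMap_eq R' (R' ⊗[A] A') C, Ideal.comap_comap,
          ← IsScalarTower.algebraMap_eq R' C BC, hr]
      · exact (Ideal.IsPrime.comap (algebraMap C BC) (K := Q'')).ne_top
          (Ideal.eq_top_of_isUnit_mem _ hmem (IsLocalization.Away.algebraMap_isUnit (S := C) e))
    calc uC = (q.comap (algebraMap (R' ⊗[A] A') C)).map (algebraMap (R' ⊗[A] A') C) := by rw [hqu]
      _ = q := IsLocalization.map_comap (Submonoid.powers e) C q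
  refine ⟨R', BR, NR, _, _, _, _, _, _, ‹_›, ‹_›, _, _, _, ‹_›, _, ‹_›, fR, _, r, inferInstance, inferInstance, _,
    inferInstance, himpR, inferInstance, ‹_›, ‹_›, hbij⟩

end GrothLib.RG6.Impure
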