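import Groth.Agent.Lib.RG6.Impure.Stage
import Groth.Agent.Lib.RG6.Impure.QF
import Groth.Agent.Lib.Hensel.Henselization

/-!
# Impurities over henselizations and over étale neighbourhoods
-/

set_option autoImplicit false
set_option linter.style.haveILetI false
set_option linter.unusedSectionVars false

universe u

open TensorProduct IsLocalRing GrothLib.Hensel

namespace GrothLib.RG6.Impure

variable {A B : Type u} [CommRing A] [CommRing B] [Algebra A B] [Algebra.FiniteType A B]
  {N : Type u} [AddCommGroup N] [Module B N] {p : Ideal A} [p.IsPrime]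

/-- A finite type subalgebra generating an algebra quasi-finite at a point over a localization is quasi-finite there. -/
theorem quasiFiniteAt_subalgebra {S : Type u} [CommRing S] [Algebra A S] [Algebra (Localization.AtPrime p) S]
    [IsScalarTower A (Localization.AtPrime p) S] [Algebra.QuasiFinite (Localization.AtPrime p) S] (A₁ : Subalgebra A S)
    (hgen : Algebra.adjoin (Localization.AtPrime p) (A₁ : Set S) = ⊤) (t₁ : Ideal A₁) [t₁.IsPrime] [t₁.LiesOver p] :
    Algebra.QuasiFiniteAt A t₁ := by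
  haveI : Algebra.QuasiFinite A S := Algebra.QuasiFinite.trans A (Localization.AtPrime p) S
  let M := p.primeCompl.map (algebraMap A A₁ : A →* A₁)
  have hunit : ∀ c : p.primeCompl, IsUnit (algebraMap A S c) := fun c => by
    rw [IsScalarTower.algebraMap_apply A (Localization.AtPrime p) S]
    exact (IsLocalization.map_units _ c).map _
  have hfrac : ∀ x : S, ∃ (c : p.primeCompl) (a : A₁), x * algebraMap A S c = (a : S) := by
    intro x
    have hx : x ∈ Algebra.adjoin (Localization.AtPrime p) (A₁ : Set S) := hgen ▸ Algebra.mem_top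
    refine Algebra.adjoin_induction ?_ ?_ ?_ ?_ hx
    · exact fun y hy => ⟨1, ⟨y, hy⟩, by simp⟩
    · intro r
      obtain ⟨⟨a, c⟩, hr⟩ := IsLocalization.surj p.primeCompl r
      refine ⟨c, algebraMap A A₁ a, ?_⟩
      rw [IsScalarTower.algebraMap_apply A (Localization.AtPrime p) S, ← map_mul, hr,
        ← IsScalarTower.algebraMap_apply]
      rfl
    · rintro y z - - ⟨c, a, hy⟩ ⟨d, b, hz⟩
      refine ⟨c * d, a * algebraMap A A₁ d + b * algebraMap A A₁ c, ?_⟩
      rw [Submonoid.coe_mul, map_mul, Subalgebra.coe_add, Subalgebra.coe_mul, Subalgebra.coe_mul, ← hy, ← hz]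
      show _ = _ * algebraMap A S d + _ * algebraMap A S c
      ring
    · rintro y z - - ⟨c, a, hy⟩ ⟨d, b, hz⟩
      refine ⟨c * d, a * b, ?_⟩
      rw [Submonoid.coe_mul, map_mul, Subalgebra.coe_mul, ← hy, ← hz]
      ring
  haveI : IsLocalization M S := by
    constructor
    refine ⟨?_, fun x => ?_, fun {a b} h => ⟨1, by rw [Subtype.val_injective h]⟩⟩
    · rintro ⟨_, c, hc, rfl⟩
      exact hunit ⟨c, hc⟩
    · obtain ⟨c, a, h⟩ := hfrac x
      exact ⟨⟨a, ⟨algebraMap A A₁ c, c, c.2, rfl⟩⟩, h⟩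
  let f : S →ₐ[A] Localization.AtPrime t₁ :=
    IsLocalization.liftAlgHom (M := M) (f := IsScalarTower.toAlgHom A A₁ (Localization.AtPrime t₁)) fun y => by
      obtain ⟨c, hc, hce⟩ := y.2
      refine IsLocalization.map_units (M := t₁.primeCompl) _ ⟨(y : A₁), fun h => hc ?_⟩
      rw [← hce] at h
      exact (Ideal.mem_of_liesOver t₁ p c).2 h
  have hf : ∀ a : A₁, f (a : S) = algebraMap A₁ (Localization.AtPrime t₁) a := fun a => by
    show f (algebraMap A₁ S a) = _
    rw [IsLocalization.liftAlgHom_apply, IsLocalization.lift_eq]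
    rfl
  refine Algebra.QuasiFinite.of_forall_exists_mul_mem_range f fun x => ?_
  obtain ⟨a, ⟨s, hs⟩, rfl⟩ := IsLocalization.exists_mk'_eq t₁.primeCompl x
  refine ⟨(s : S), hf s ▸ IsLocalization.map_units _ (⟨s, hs⟩ : t₁.primeCompl), ?_⟩
  rw [hf, IsLocalization.mk'_spec_mk]
  exact ⟨a, hf a⟩

theorem etaleNhd_of_henselization {A' B' N' : Type u} [CommRing A'] [CommRing B'] [Algebra A A'] [Algebra B B']
    [Algebra A' B'] [Algebra A B'] [IsScalarTower A B B'] [IsScalarTower A A' B'] [AddCommGroup N'] [Module B' N']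
    [Module B N'] [IsScalarTower B B' N'] [Module A' N'] [IsScalarTower A' B' N'] {f : N →ₗ[B] N'}
    [IsLocalRing A'] [Algebra (Localization.AtPrime p) A'] [IsScalarTower A (Localization.AtPrime p) A']
    [IsLocalHom (algebraMap (Localization.AtPrime p) A')] [_root_.Hensel.IsHenselization (Localization.AtPrime p) A']
    {t' : Ideal A'} [t'.IsPrime] {P : Ideal B'} [P.IsPrime]
    (himp : FlatCA.IsImpurity A B N p A' B' N' f t' (maximalIdeal A') P) :
    FlatCA.HasImpurity A B N p (fun A'' _ _ t'' => ∃ _ : t''.IsPrime, FlatCA.IsEtaleNhd A A'' p t'') := by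
  classical
  obtain ⟨s, F, hs, h⟩ := exists_stage himp
  haveI := himp.2.2.2.1
  let e := (IsHenselization.nonempty_hens_algEquiv (R := Localization.AtPrime p) (S := A')).some
  obtain ⟨M, a, ha⟩ := Hull.exists_ι_family (fun x : {x // x ∈ insert s F} => e.symm (x : A'))
  obtain ⟨G, hG⟩ := (inferInstance : Algebra.FiniteType (Localization.AtPrime p) M.Ring).out
  let A₁ := Algebra.adjoin A ((G : Set M.Ring) ∪ Set.range a)
  haveI : Algebra.FiniteType A A₁ := Algebra.FiniteType.adjoin_of_finite (G.finite_toSet.union (Set.finite_range a))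
  let ψ : A₁ →ₐ[A] A' := ((e.toAlgHom.comp (Hull.ι M)).restrictScalars A).comp A₁.val
  letI : Algebra A₁ A' := ψ.toRingHom.toAlgebra
  haveI : IsScalarTower A A₁ A' := .of_algebraMap_eq fun x => (ψ.commutes x).symm
  have hψ : ∀ (x : A') (hx : x ∈ insert s F),
      algebraMap A₁ A' ⟨a ⟨x, hx⟩, Algebra.subset_adjoin (Or.inr ⟨⟨x, hx⟩, rfl⟩)⟩ = x := fun x hx => by
    show e (Hull.ι M (a ⟨x, hx⟩)) = x
    rw [ha, AlgEquiv.apply_symm_apply]
  let t₁ := (maximalIdeal A').comap (algebraMap A₁ A')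
  haveI : t₁.LiesOver p := ⟨by
    refine ((maximalIdeal A').over_def p).trans ?_
    show Ideal.comap _ _ = Ideal.comap _ (Ideal.comap _ _)
    rw [Ideal.comap_comap, ← IsScalarTower.algebraMap_eq A A₁ A']⟩
  have hgen : Algebra.adjoin (Localization.AtPrime p) (A₁ : Set M.Ring) = ⊤ :=
    top_le_iff.1 (hG.ge.trans (Algebra.adjoin_mono fun x hx => Algebra.subset_adjoin (Or.inl hx)))
  haveI := quasiFiniteAt_subalgebra A₁ hgen t₁
  obtain ⟨C, BC, NC, _, _, _, _, _, _, _, _, _, _, _, _, _, _, fC, u', u, _, _, PC, _, himpC, _, _, _⟩ :=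
    h A₁ (fun x hx => ⟨_, hψ x (Finset.mem_insert_of_mem hx)⟩) _ (hψ s (Finset.mem_insert_self _ _)) t₁ inferInstance
      inferInstance le_rfl (fun hmem => hs (hψ s (Finset.mem_insert_self _ _) ▸ hmem))
      (fun C _ _ u => ∃ _ : u.IsPrime, Algebra.FiniteType A C ∧ Algebra.QuasiFiniteAt A u) ⟨inferInstance, ‹_›, ‹_›⟩
  exact etaleNhd_of_qf himpC

theorem henselization_of_etaleNhd {A₁ B₁ N₁ : Type u} [CommRing A₁] [CommRing B₁] [Algebra A A₁] [Algebra B B₁]
    [Algebra A₁ B₁] [Algebra A B₁] [IsScalarTower A B B₁] [IsScalarTower A A₁ B₁] [AddCommGroup N₁] [Module B₁ N₁]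
    [Module B N₁] [IsScalarTower B B₁ N₁] [Module A₁ N₁] [IsScalarTower A₁ B₁ N₁] {f : N →ₗ[B] N₁}
    {t' t : Ideal A₁} [t'.IsPrime] [t.IsPrime] {P : Ideal B₁} [P.IsPrime] (het : FlatCA.IsEtaleNhd A A₁ p t)
    (himp : FlatCA.IsImpurity A B N p A₁ B₁ N₁ f t' t P) :
    FlatCA.HasImpurity A B N p (fun A' _ _ t => ∃ (_ : IsLocalRing A') (_ : Algebra (Localization.AtPrime p) A')
      (_ : IsScalarTower A (Localization.AtPrime p) A') (_ : IsLocalHom (algebraMap (Localization.AtPrime p) A')),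
      Hensel.IsHenselization (Localization.AtPrime p) A' ∧ t = maximalIdeal A') := by
  obtain ⟨het', hlo, hbij⟩ := het
  let R := Localization.AtPrime p
  let e := AlgEquiv.ofBijective _ hbij
  let g : A₁ →ₐ[A] p.ResidueField := e.symm.toAlgHom.comp (IsScalarTower.toAlgHom A A₁ t.ResidueField)
  letI : Algebra A (Hens R) := ((algebraMap R (Hens R)).comp (algebraMap A R)).toAlgebra
  haveI : IsScalarTower A R (Hens R) := .of_algebraMap_eq fun _ => rfl
  let φ : R ⊗[A] A₁ →ₐ[R] ResidueField R :=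
    Algebra.TensorProduct.lift (Algebra.ofId R (ResidueField R)) g fun _ _ => Commute.all _ _
  let ψ : A₁ →ₐ[A] Hens R := ((Hull.of φ).restrictScalars A).comp Algebra.TensorProduct.includeRight
  letI : Algebra A₁ (Hens R) := ψ.toRingHom.toAlgebra
  haveI : IsScalarTower A A₁ (Hens R) := .of_algebraMap_eq fun x => (ψ.commutes x).symm
  have hproj : ∀ x : A₁, Hull.proj (algebraMap A₁ (Hens R) x) = g x := fun x => by
    show Hull.proj (Hull.of φ ((1 : R) ⊗ₜ[A] x)) = g x
    rw [← AlgHom.comp_apply, Hull.proj_comp_of, Algebra.TensorProduct.lift_tmul, map_one, one_mul]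
  haveI : (maximalIdeal (Hens R)).LiesOver t := ⟨by
    ext x
    show x ∈ t ↔ algebraMap A₁ (Hens R) x ∈ maximalIdeal (Hens R)
    rw [FieldHull.maximalIdeal_eq, RingHom.mem_ker]
    show _ ↔ Hull.proj (algebraMap A₁ (Hens R) x) = 0
    rw [hproj]
    exact Ideal.algebraMap_residueField_eq_zero.symm.trans (e.symm.map_eq_zero_iff.symm)⟩
  haveI : Module.Flat R (Hens R) := inferInstance
  haveI : Module.Flat A (Hens R) := Module.Flat.trans A R (Hens R)
  haveI : Module.Flat A₁ (Hens R) := Algebra.FormallyUnramified.flat_of_restrictScalars A A₁ (Hens R)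
  obtain ⟨c, hc, _, _⟩ := Ideal.exists_ideal_le_liesOver_of_le (p := t') (q := t) (maximalIdeal (Hens R)) himp.2.2.1
  obtain ⟨B', N', _, _, _, _, _, _, _, _, _, _, _, _, f', hpo, hf⟩ := exists_data A B N (Hens R)
  obtain ⟨Q, _, hQ⟩ := impurity_up hpo hf himp c (maximalIdeal (Hens R)) hc
  exact ⟨Hens R, B', N', _, _, _, _, _, _, ‹_›, ‹_›, _, _, _, ‹_›, _, ‹_›, f', c, maximalIdeal (Hens R), inferInstance,
    inferInstance, Q, inferInstance, hQ, inferInstance, inferInstance, inferInstance, inferInstance, inferInstance, rfl⟩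

end GrothLib.RG6.Impure
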