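import Groth.Agent.Lib.RG6.Impure.Stage
import Groth.Agent.Lib.RG6.Impure.QF
import Groth.Agent.Lib.RG6.Impure.Purity

/-!
# Impurities and localisation of the base
-/

set_option autoImplicit false
set_option linter.style.haveILetI false
set_option linter.unusedSectionVars false

universe u

open TensorProduct

namespace GrothLib.RG6.Impure

variable {A : Type u} [CommRing A] {p : Ideal A} [p.IsPrime]

/-- A subalgebra generating an algebra over a localization is quasi-finite where that algebra is. -/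
theorem quasiFiniteAt_comap_subalgebra {S : Type u} [CommRing S] [Algebra A S] [Algebra (Localization.AtPrime p) S]
    [IsScalarTower A (Localization.AtPrime p) S] (A₁ : Subalgebra A S)
    (hgen : Algebra.adjoin (Localization.AtPrime p) (A₁ : Set S) = ⊤) (u : Ideal S) [u.IsPrime] [u.LiesOver p]
    [Algebra.QuasiFiniteAt (Localization.AtPrime p) u] :
    Algebra.QuasiFiniteAt A (u.comap (algebraMap A₁ S)) := by
  let t₁ := u.comap (algebraMap A₁ S)
  haveI : Algebra.QuasiFinite A (Localization.AtPrime u) :=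
    Algebra.QuasiFinite.trans A (Localization.AtPrime p) (Localization.AtPrime u)
  let M := p.primeCompl.map (algebraMap A A₁ : A →* A₁)
  have hunit : ∀ c : p.primeCompl, IsUnit (algebraMap A S c) := fun c => by
    rw [IsScalarTower.algebraMap_apply A (Localization.AtPrime p) S]
    exact (IsLocalization.map_units _ c).map _
  have hfrac : ∀ x : S, ∃ (c : p.primeCompl) (a : A₁), x * algebraMap A S c = (a : S) := by
    intro x
    have hx : x ∈ Algebra.adjoin (Localization.AtPrime p) (A₁ : Set S) := hgen ▸ Algebra.mem_top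
    refine Algebra.adjoin_induction ?_ ?_ ?_ ?_ hx
    · exact fun y hy => ⟨1, ⟨y, hy⟩, by simp⟩
    · intro r
      obtain ⟨⟨a, c⟩, hr⟩ := IsLocalization.surj p.primeCompl r
      refine ⟨c, algebraMap A A₁ a, ?_⟩
      rw [IsScalarTower.algebraMap_apply A (Localization.AtPrime p) S, ← map_mul, hr,
        ← IsScalarTower.algebraMap_apply]
      rfl
    · rintro y z - - ⟨c, a, hy⟩ ⟨d, b, hz⟩
      refine ⟨c * d, a * algebraMap A A₁ d + b * algebraMap A A₁ c, ?_⟩
      rw [Submonoid.coe_mul, map_mul, Subalgebra.coe_add, Subalgebra.coe_mul, Subalgebra.coe_mul, ← hy, ← hz]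
      show _ = _ * algebraMap A S d + _ * algebraMap A S c
      ring
    · rintro y z - - ⟨c, a, hy⟩ ⟨d, b, hz⟩
      refine ⟨c * d, a * b, ?_⟩
      rw [Submonoid.coe_mul, map_mul, Subalgebra.coe_mul, ← hy, ← hz]
      ring
  haveI : IsLocalization M S := by
    constructor
    refine ⟨?_, fun x => ?_, fun {a b} h => ⟨1, by rw [Subtype.val_injective h]⟩⟩
    · rintro ⟨_, c, hc, rfl⟩
      exact hunit ⟨c, hc⟩
    · obtain ⟨c, a, h⟩ := hfrac x
      exact ⟨⟨a, ⟨algebraMap A A₁ c, c, c.2, rfl⟩⟩, h⟩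
  have hM : ∀ y : M, (y : A₁) ∉ t₁ := by
    rintro ⟨_, c, hc, rfl⟩ h
    have h' : algebraMap A S c ∈ u := h
    exact hc ((Ideal.mem_of_liesOver u p c).2 h')
  let f₀ : S →ₐ[A] Localization.AtPrime t₁ :=
    IsLocalization.liftAlgHom (M := M) (f := IsScalarTower.toAlgHom A A₁ (Localization.AtPrime t₁)) fun y =>
      IsLocalization.map_units (M := t₁.primeCompl) _ ⟨(y : A₁), hM y⟩
  have hf₀ : ∀ a : A₁, f₀ (a : S) = algebraMap A₁ (Localization.AtPrime t₁) a := fun a => by
    show f₀ (algebraMap A₁ S a) = _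
    rw [IsLocalization.liftAlgHom_apply, IsLocalization.lift_eq]
    rfl
  let f : Localization.AtPrime u →ₐ[A] Localization.AtPrime t₁ :=
    IsLocalization.liftAlgHom (M := u.primeCompl) (f := f₀) fun y => by
      obtain ⟨c, a, h⟩ := hfrac y
      have ha : a ∉ t₁ := fun ha => by
        have h' : (y : S) * algebraMap A S c ∈ u := h ▸ ha
        exact (‹u.IsPrime›.mem_or_mem h').elim y.2 fun h'' => c.2 ((Ideal.mem_of_liesOver u p (c : A)).2 h'')
      have := IsLocalization.map_units (Localization.AtPrime t₁) (⟨a, ha⟩ : t₁.primeCompl)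
      rw [← hf₀, ← h, map_mul] at this
      exact isUnit_of_mul_isUnit_left this
  have hf : ∀ a : A₁, f (algebraMap S _ (a : S)) = algebraMap A₁ (Localization.AtPrime t₁) a := fun a => by
    rw [IsLocalization.liftAlgHom_apply, IsLocalization.lift_eq]
    exact hf₀ a
  refine Algebra.QuasiFinite.of_forall_exists_mul_mem_range f fun x => ?_
  obtain ⟨a, ⟨s, hs⟩, rfl⟩ := IsLocalization.exists_mk'_eq t₁.primeCompl x
  refine ⟨algebraMap S _ (s : S), hf s ▸ IsLocalization.map_units _ (⟨s, hs⟩ : t₁.primeCompl), ?_⟩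
  rw [hf, IsLocalization.mk'_spec_mk]
  exact ⟨_, hf a⟩

variable {B : Type u} [CommRing B] [Algebra A B] [Algebra.FiniteType A B] {N : Type u} [AddCommGroup N] [Module B N]
  {A' B' N' : Type u} [CommRing A'] [CommRing B'] [Algebra A A'] [Algebra B B'] [Algebra A' B'] [Algebra A B']
  [IsScalarTower A B B'] [IsScalarTower A A' B'] [AddCommGroup N'] [Module B' N'] [Module B N']
  [IsScalarTower B B' N'] [Module A' N'] [IsScalarTower A' B' N'] {f : N →ₗ[B] N'}
  [Algebra (Localization.AtPrime p) A'] [IsScalarTower A (Localization.AtPrime p) A']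

theorem etaleNhd_of_qf_localization [Algebra.FiniteType (Localization.AtPrime p) A'] {t' t : Ideal A'} [t'.IsPrime]
    [t.IsPrime] [Algebra.QuasiFiniteAt (Localization.AtPrime p) t] {P : Ideal B'} [P.IsPrime]
    (himp : FlatCA.IsImpurity A B N p A' B' N' f t' t P) :
    FlatCA.HasImpurity A B N p (fun A'' _ _ t'' => ∃ _ : t''.IsPrime, FlatCA.IsEtaleNhd A A'' p t'') := by
  classical
  obtain ⟨s, F, hs, h⟩ := exists_stage himp
  haveI := himp.2.2.2.1
  obtain ⟨G, hG⟩ := (inferInstance : Algebra.FiniteType (Localization.AtPrime p) A').out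
  let S₀ : Finset A' := G ∪ insert s F
  let A₁ := Algebra.adjoin A (S₀ : Set A')
  haveI : Algebra.FiniteType A A₁ := Algebra.FiniteType.adjoin_of_finite S₀.finite_toSet
  have hgen : Algebra.adjoin (Localization.AtPrime p) (A₁ : Set A') = ⊤ :=
    top_le_iff.1 (hG.ge.trans (Algebra.adjoin_mono fun x hx => Algebra.subset_adjoin (Finset.mem_union_left _ hx)))
  haveI := quasiFiniteAt_comap_subalgebra A₁ hgen t
  haveI : (t.comap (algebraMap A₁ A')).LiesOver p := ⟨(t.over_def p).trans (by
    show Ideal.comap _ _ = Ideal.comap _ (Ideal.comap _ _)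
    rw [Ideal.comap_comap, ← IsScalarTower.algebraMap_eq A A₁ A'])⟩
  obtain ⟨C, BC, NC, _, _, _, _, _, _, _, _, _, _, _, _, _, _, fC, u', u, _, _, PC, _, himpC, _, _, _⟩ :=
    h A₁ (fun x hx => ⟨⟨x, Algebra.subset_adjoin (Finset.mem_union_right _ (Finset.mem_insert_of_mem hx))⟩, rfl⟩)
      ⟨s, Algebra.subset_adjoin (Finset.mem_union_right _ (Finset.mem_insert_self _ _))⟩ rfl
      (t.comap (algebraMap A₁ A')) inferInstance inferInstance le_rfl hs
      (fun C _ _ u => ∃ _ : u.IsPrime, Algebra.FiniteType A C ∧ Algebra.QuasiFiniteAt A u) ⟨inferInstance, ‹_›, ‹_›⟩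
  exact etaleNhd_of_qf himpC

end GrothLib.RG6.Impure
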