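import Groth.Agent.Lib.RG6.Impure.Basic
import Groth.Agent.Lib.RG6.Impure.Chain
import Groth.Agent.Lib.GenFree.Presentation

/-!
# Impurities over quasi-finite base changes, Noetherian base
-/

set_option autoImplicit false
set_option linter.style.haveILetI false
set_option linter.unusedSectionVars false

universe u

open TensorProduct

namespace GrothLib.RG6.Impure

section Elem

variable {D B' N' : Type u} [CommRing D] [IsDomain D] [CommRing B'] [Algebra D B'] [AddCommGroup N'] [Module B' N']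
  [Module D N'] [IsScalarTower D B' N']

theorem exists_elem (P : Ideal B') [P.IsPrime]
    (hass : FlatCA.fiberIdeal (⊥ : Ideal D) P ∈
      associatedPrimes ((⊥ : Ideal D).Fiber B') (FlatCA.fiberMod (⊥ : Ideal D) B' N'))
    [IsNoetherianRing ((⊥ : Ideal D).Fiber B')] :
    ∃ n : N', (∀ u : D, u ≠ 0 → u • n ≠ 0) ∧ ∀ x ∈ P, ∃ u : D, u ≠ 0 ∧ u • (x • n) = 0 := by
  obtain ⟨hp, w, hw⟩ := isAssociatedPrime_iff.1 hass
  obtain ⟨e, he⟩ := GrothLib.WeakAssFib.exists_fibreEquiv (⊥ : Ideal D) (S := B') N'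
  obtain ⟨z, rfl⟩ := e.surjective w
  obtain ⟨r, hr, n, hn⟩ := GrothLib.WeakAssFib.exists_smul_eq_tmul_one (⊥ : Ideal D) z
  have hz : z ≠ 0 := fun h => hp.ne_top ((Ideal.eq_top_iff_one _).2 (by
    rw [hw, Submodule.mem_colon_singleton, Submodule.mem_bot, h, map_zero, smul_zero]))
  have hunit : IsUnit (algebraMap D (⊥ : Ideal D).ResidueField r) :=
    isUnit_iff_ne_zero.2 fun h => hr (Ideal.algebraMap_residueField_eq_zero.1 h)
  refine ⟨n, fun u hu h => hz ?_, fun x hx => ?_⟩
  · have h1 : e ((algebraMap D B' u * algebraMap D B' r) • z) = 0 := by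
      rw [mul_smul, algebraMap_smul, algebraMap_smul, hn, smul_tmul', h, zero_tmul, map_zero]
    rw [he, ← map_mul, GrothLib.WeakAssFib.toFib_algebraMap,
      IsUnit.smul_eq_zero (GrothLib.WeakAssFib.isUnit_toFib (⊥ : Ideal D) (S := B')
        (show u * r ∉ (⊥ : Ideal D) from fun h' => (mul_eq_zero.1 h').elim hu hr))] at h1
    exact e.map_eq_zero_iff.1 h1
  · have h1 : x • z = 0 := e.map_eq_zero_iff.1 (by
      have h2 : GrothLib.WeakAssFib.toFib (⊥ : Ideal D) x ∈ FlatCA.fiberIdeal (⊥ : Ideal D) P :=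
        Ideal.mem_map_of_mem _ hx
      rw [hw, Submodule.mem_colon_singleton, Submodule.mem_bot] at h2
      rw [he, h2])
    have h3 : (x • n) ⊗ₜ[D] (1 : (⊥ : Ideal D).ResidueField) = 0 := by
      rw [← smul_tmul', ← hn, ← algebraMap_smul B' r z, smul_smul, mul_comm, mul_smul, h1, smul_zero]
    obtain ⟨u, hu, hmem⟩ := GrothLib.WeakAssFib.exists_smul_mem_of_tmul_one_eq_zero (⊥ : Ideal D) h3
    exact ⟨u, hu, by rwa [Submodule.bot_smul, Submodule.mem_bot] at hmem⟩

theorem smul_mem_smul_top {J : Ideal D} (b : B') {v : N'} (hv : v ∈ J • (⊤ : Submodule D N')) :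
    b • v ∈ J • (⊤ : Submodule D N') := by
  refine Submodule.smul_induction_on hv (fun r hr y _ => ?_) fun x y hx hy => ?_
  · rw [smul_comm]
    exact Submodule.smul_mem_smul hr Submodule.mem_top
  · rw [smul_add]
    exact add_mem hx hy

/-- The closure of an associated point of the generic fibre of a free module over a local domain meets
the closed fibre. -/
theorem exists_over_closedPoint [IsLocalRing D] [Module.Free D N'] (P : Ideal B') [P.IsPrime]
    (hass : FlatCA.fiberIdeal (⊥ : Ideal D) P ∈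
      associatedPrimes ((⊥ : Ideal D).Fiber B') (FlatCA.fiberMod (⊥ : Ideal D) B' N'))
    [IsNoetherianRing ((⊥ : Ideal D).Fiber B')] :
    ∃ (P' : Ideal B') (_ : P'.IsPrime), P ≤ P' ∧ P'.LiesOver (IsLocalRing.maximalIdeal D) := by
  classical
  by_contra! hmiss
  obtain ⟨s, hs, hmem⟩ := (miss_iff (IsLocalRing.maximalIdeal D) P).1 fun P' hP' hle => hmiss P' hP' hle
  obtain ⟨n, hn, hx⟩ := exists_elem P hass
  obtain ⟨x, hxP, y, hy, hxy⟩ := Submodule.mem_sup.1 hmem
  let b := Module.Free.chooseBasis D N'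
  let c : Ideal D := Ideal.span (((b.repr n).support.image (b.repr n) : Finset D) : Set D)
  have hcfg : c.FG := ⟨_, rfl⟩
  have hnc : n ∈ c • (⊤ : Submodule D N') := by
    rw [← b.linearCombination_repr n, Finsupp.linearCombination_apply]
    exact Submodule.sum_mem _ fun i hi => Submodule.smul_mem_smul
      (Ideal.subset_span (Finset.mem_image_of_mem _ hi)) Submodule.mem_top
  let J := IsLocalRing.maximalIdeal D * c
  have hxn : x • n = 0 := by
    obtain ⟨u, hu, h⟩ := hx x hxP
    exact (smul_eq_zero.1 h).resolve_left hu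
  have hyn : y • n ∈ J • (⊤ : Submodule D N') := by
    refine Submodule.span_induction (p := fun y _ => y • n ∈ J • (⊤ : Submodule D N')) ?_ ?_ ?_ ?_ hy
    · rintro _ ⟨a, ha, rfl⟩
      rw [algebraMap_smul]
      show a • n ∈ (IsLocalRing.maximalIdeal D * c) • (⊤ : Submodule D N')
      rw [← smul_eq_mul, Submodule.smul_assoc]
      exact Submodule.smul_mem_smul ha hnc
    · rw [zero_smul]
      exact zero_mem _
    · intro u v _ _ hu hv
      rw [add_smul]
      exact add_mem hu hv
    · intro q v _ hv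
      rw [smul_assoc]
      exact smul_mem_smul_top q hv
  have hnJ : n ∈ J • (⊤ : Submodule D N') := by
    have hu : IsUnit s := IsLocalRing.notMem_maximalIdeal.1 hs
    have h1 : s • n ∈ J • (⊤ : Submodule D N') := by
      rw [← algebraMap_smul B' s n, ← hxy, add_smul, hxn, zero_add]
      exact hyn
    simpa [smul_smul] using Submodule.smul_mem _ (↑hu.unit⁻¹ : D) h1
  have hcoord : ∀ i, b.repr n i ∈ J := by
    intro i
    refine Submodule.smul_induction_on (p := fun v => b.repr v i ∈ J) hnJ (fun r hr v _ => ?_) fun u v hu hv => ?_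
    · rw [map_smul, Finsupp.smul_apply, smul_eq_mul]
      exact Ideal.mul_mem_right _ _ hr
    · rw [map_add, Finsupp.add_apply]
      exact add_mem hu hv
  have hc : c ≤ IsLocalRing.maximalIdeal D • c := by
    refine Ideal.span_le.2 fun a ha => ?_
    obtain ⟨i, -, rfl⟩ := Finset.mem_image.1 (Finset.mem_coe.1 ha)
    exact hcoord i
  have hc0 := Submodule.eq_bot_of_le_smul_of_le_jacobson_bot _ c hcfg hc (IsLocalRing.maximalIdeal_le_jacobson _)
  refine hn 1 one_ne_zero ?_
  rw [one_smul, ← b.repr.map_eq_zero_iff]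
  ext i
  by_contra h
  have : b.repr n i ∈ c := Ideal.subset_span (Finset.mem_image_of_mem _ (Finsupp.mem_support_iff.2 h))
  rw [hc0] at this
  exact h this

/-- Near the generic point, an associated point of the generic fibre specializes to associated points. -/
theorem exists_generic_ass [Algebra.FiniteType D B'] [Module.Finite B' N'] (P : Ideal B') [P.IsPrime]
    (hass : FlatCA.fiberIdeal (⊥ : Ideal D) P ∈
      associatedPrimes ((⊥ : Ideal D).Fiber B') (FlatCA.fiberMod (⊥ : Ideal D) B' N'))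
    [IsNoetherianRing ((⊥ : Ideal D).Fiber B')] :
    ∃ f : D, f ≠ 0 ∧ ∀ (Q : Ideal D) [Q.IsPrime], f ∉ Q → ∃ (P'' : Ideal B') (_ : P''.IsPrime),
      P ≤ P'' ∧ P''.LiesOver Q ∧
        FlatCA.fiberIdeal Q P'' ∈ associatedPrimes (Q.Fiber B') (FlatCA.fiberMod Q B' N') := by
  classical
  obtain ⟨n, hn, hx⟩ := exists_elem P hass
  obtain ⟨f₀, -, hf₀, hfree, -⟩ := GrothLib.GenFree.exists_free_and_finitePresentation (R := D) B' N' 1 one_ne_zero
  haveI := hfree
  let L := Localization.Away f₀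
  haveI : IsDomain L := IsLocalization.isDomain_localization (powers_le_nonZeroDivisors_of_noZeroDivisors hf₀)
  let j : N' →ₗ[D] L ⊗[D] N' := TensorProduct.mk D L N' 1
  haveI hj : IsLocalizedModule (Submonoid.powers f₀) j :=
    (isLocalizedModule_iff_isBaseChange (Submonoid.powers f₀) L j).2 (TensorProduct.isBaseChange D N' L)
  let b := Module.Free.chooseBasis L (L ⊗[D] N')
  have hjn : j n ≠ 0 := fun h => by
    obtain ⟨⟨_, k, rfl⟩, hu⟩ := (IsLocalizedModule.eq_zero_iff (Submonoid.powers f₀) j).1 h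
    exact hn _ (pow_ne_zero k hf₀) hu
  obtain ⟨i, hi⟩ : ∃ i, b.repr (j n) i ≠ 0 := by
    by_contra! hall
    exact hjn (b.repr.map_eq_zero_iff.1 (Finsupp.ext hall))
  obtain ⟨⟨a, ⟨_, k, rfl⟩⟩, hak⟩ := IsLocalization.surj (Submonoid.powers f₀) (b.repr (j n) i)
  dsimp only at hak
  have ha : a ≠ 0 := fun h => by
    rw [h, map_zero, mul_eq_zero] at hak
    exact hak.elim hi fun h' => pow_ne_zero k hf₀ ((IsLocalization.to_map_eq_zero_iff L
      (powers_le_nonZeroDivisors_of_noZeroDivisors hf₀)).1 h')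
  refine ⟨f₀ * a, mul_ne_zero hf₀ ha, fun Q _ hQ => ?_⟩
  have hf₀Q : f₀ ∉ Q := fun h => hQ (Ideal.mul_mem_right _ _ h)
  have hpow : ∀ k : ℕ, IsUnit (algebraMap D Q.ResidueField (f₀ ^ k)) := fun k =>
    isUnit_iff_ne_zero.2 fun h => hf₀Q (‹Q.IsPrime›.mem_of_pow_mem k (Ideal.algebraMap_residueField_eq_zero.1 h))
  let φ : L →ₐ[D] Q.ResidueField :=
    IsLocalization.liftAlgHom (M := Submonoid.powers f₀) (f := Algebra.ofId D Q.ResidueField)
      fun ⟨_, k, hk⟩ => hk ▸ hpow k
  -- coordinate at the point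
  let l : N' →ₗ[D] Q.ResidueField := φ.toLinearMap ∘ₗ ((b.coord i).restrictScalars D) ∘ₗ j
  have hl : l n ≠ 0 := fun h => by
    have h1 := congrArg φ hak
    rw [map_mul, φ.commutes, φ.commutes] at h1
    change l n * _ = _ at h1
    rw [h, zero_mul] at h1
    exact hQ (Ideal.mul_mem_left _ _ (Ideal.algebraMap_residueField_eq_zero.1 h1.symm))
  let w : N' ⊗[D] Q.ResidueField := n ⊗ₜ 1
  have hw : w ≠ 0 := fun h => hl (by
    have h1 := congrArg (TensorProduct.lift ((LinearMap.mul D Q.ResidueField).comp l)) h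
    simpa [w] using h1)
  haveI : IsNoetherianRing (Q.Fiber B') := Algebra.FiniteType.isNoetherianRing Q.ResidueField _
  obtain ⟨e, he⟩ := GrothLib.WeakAssFib.exists_fibreEquiv Q (S := B') N'
  obtain ⟨M, hM, hle⟩ := exists_le_isAssociatedPrime_of_isNoetherianRing (R := Q.Fiber B') (e w)
    (fun h => hw (e.map_eq_zero_iff.1 h))
  haveI := hM.isPrime
  obtain ⟨hl', hf'⟩ := (mem_fibre_iff Q (M.comap (GrothLib.WeakAssFib.toFib Q))).2 rfl
  refine ⟨M.comap (GrothLib.WeakAssFib.toFib Q), inferInstance, fun x hxP => hle ?_, hl', by rw [hf']; exact hM⟩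
  rw [Submodule.mem_colon_singleton, Submodule.mem_bot, ← he]
  have hxn : j (x • n) = 0 := by
    obtain ⟨u, hu, h⟩ := hx x hxP
    have h' : algebraMap D L u • j (x • n) = 0 := by rw [algebraMap_smul, ← map_smul, h, map_zero]
    exact (smul_eq_zero.1 h').resolve_left fun h'' => hu ((IsLocalization.to_map_eq_zero_iff L
      (powers_le_nonZeroDivisors_of_noZeroDivisors hf₀)).1 h'')
  obtain ⟨⟨_, k', rfl⟩, hk'⟩ := (IsLocalizedModule.eq_zero_iff (Submonoid.powers f₀) j).1 hxn
  have h0 : (x • n) ⊗ₜ[D] (1 : Q.ResidueField) = 0 := by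
    rw [← (hpow k').mul_val_inv, ← Algebra.smul_def, ← smul_tmul,
      show (f₀ ^ k') • (x • n) = 0 from hk', zero_tmul]
  rw [smul_tmul', h0, map_zero]

end Elem

end GrothLib.RG6.Impure
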