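import Groth.Agent.Lib.RG6.Impure.Noeth

/-!
# Impurities over quasi-finite base changes, assembly
-/

set_option autoImplicit false
set_option linter.style.haveILetI false
set_option linter.unusedSectionVars false

universe u

open TensorProduct

namespace GrothLib.RG6.Impure

variable {A B : Type u} [CommRing A] [CommRing B] [Algebra A B] [Algebra.FiniteType A B]
  {N : Type u} [AddCommGroup N] [Module B N] [Module.Finite B N] {p : Ideal A} [p.IsPrime]

theorem free_baseChange_of_local {L BL NL : Type u} [CommRing L] [CommRing BL] [Algebra A L] [Algebra B BL]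
    [Algebra L BL] [Algebra A BL] [IsScalarTower A B BL] [IsScalarTower A L BL] [AddCommGroup NL] [Module BL NL]
    [Module B NL] [IsScalarTower B BL NL] [Module L NL] [IsScalarTower L BL NL] {g : N →ₗ[B] NL}
    (hpo : Algebra.IsPushout A B L BL) (hg : IsBaseChange BL g) (h1 : p ≤ RingHom.ker (algebraMap A L))
    (h2 : p.primeCompl ≤ (IsUnit.submonoid L).comap (algebraMap A L)) : Module.Free L NL := by
  letI : Module A N := Module.compHom N (algebraMap A B)
  haveI : IsScalarTower A B N := IsScalarTower.of_algebraMap_smul fun _ _ => rfl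
  letI : Algebra p.ResidueField L := (Ideal.ResidueField.lift p (algebraMap A L) h1 h2).toAlgebra
  haveI : IsScalarTower A p.ResidueField L := .of_algebraMap_eq fun x =>
    (Ideal.ResidueField.lift_algebraMap p (algebraMap A L) h1 h2 x).symm
  haveI : Algebra.IsPushout A L B BL := hpo.symm
  haveI : Module.Free L (L ⊗[A] N) :=
    Module.Free.of_equiv (TensorProduct.AlgebraTensorModule.cancelBaseChange A p.ResidueField L L N)
  exact Module.Free.of_equiv ((Algebra.IsPushout.cancelBaseChange A L B BL N).symm ≪≫ₗ hg.equiv.restrictScalars L)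

variable {D BD ND : Type u} [CommRing D] [IsDomain D] [CommRing BD] [Algebra A D] [Algebra B BD] [Algebra D BD]
  [Algebra A BD] [IsScalarTower A B BD] [IsScalarTower A D BD] [AddCommGroup ND] [Module BD ND] [Module B ND]
  [IsScalarTower B BD ND] [Module D ND] [IsScalarTower D BD ND] {f : N →ₗ[B] ND}

theorem qf_of_domain [IsNoetherianRing A] [Algebra.FiniteType A D] {t : Ideal D} [t.IsPrime] {P : Ideal BD}
    [P.IsPrime] (himp : FlatCA.IsImpurity A B N p D BD ND f ⊥ t P)
    (hclosed : ∀ q : Ideal D, q.IsPrime → q.LiesOver p → t ≤ q → q = t) :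
    FlatCA.HasImpurity A B N p (fun A' _ _ t => ∃ _ : t.IsPrime, Algebra.FiniteType A A' ∧ Algebra.QuasiFiniteAt A t) := by
  obtain ⟨hpo, hf, -, ht, hP, hass, hmiss⟩ := id himp
  haveI := ht
  haveI := finiteType_baseChange hpo
  haveI : Module.Finite BD ND := Module.Finite.equiv hf.equiv
  haveI : IsNoetherianRing D := Algebra.FiniteType.isNoetherianRing A D
  haveI : IsNoetherianRing ((⊥ : Ideal D).Fiber BD) :=
    Algebra.FiniteType.isNoetherianRing (⊥ : Ideal D).ResidueField _
  by_cases hgen : (⊥ : Ideal D).LiesOver p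
  · -- no impurity inside one fibre
    exfalso
    let L := Localization.AtPrime t
    haveI : IsDomain L := IsLocalization.isDomain_localization (Ideal.primeCompl_le_nonZeroDivisors t)
    haveI : (⊥ : Ideal L).LiesOver (⊥ : Ideal D) := ⟨(Ideal.comap_bot_of_injective _
      (IsLocalization.injective L (Ideal.primeCompl_le_nonZeroDivisors t))).symm⟩
    haveI : (IsLocalRing.maximalIdeal L).LiesOver t := ⟨(Localization.AtPrime.under_maximalIdeal).symm⟩
    obtain ⟨BL, NL, _, _, _, _, _, _, _, _, _, _, _, _, g, hpoL, hgL⟩ := exists_data A B N L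
    obtain ⟨Q, _, -, -, -, -, hQ, hassQ, hmissQ⟩ :=
      impurity_up hpoL hgL himp (⊥ : Ideal L) (IsLocalRing.maximalIdeal L) bot_le
    haveI := finiteType_baseChange hpoL
    haveI : IsNoetherianRing ((⊥ : Ideal L).Fiber BL) :=
      Algebra.FiniteType.isNoetherianRing (⊥ : Ideal L).ResidueField _
    haveI : Module.Free L NL := free_baseChange_of_local (p := p) hpoL hgL
      (fun a ha => by
        have : algebraMap A D a = 0 := (Ideal.mem_bot).1 ((Ideal.mem_of_liesOver (⊥ : Ideal D) p a).1 ha)
        rw [RingHom.mem_ker, IsScalarTower.algebraMap_apply A D L, this, map_zero])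
      (fun a ha => by
        show IsUnit (algebraMap A L a)
        rw [IsScalarTower.algebraMap_apply A D L]
        exact IsLocalization.map_units (M := t.primeCompl) L
          ⟨algebraMap A D a, fun h => ha ((Ideal.mem_of_liesOver t p a).2 h)⟩)
    obtain ⟨P', _, hle, hover⟩ := exists_over_closedPoint Q hassQ
    exact hmissQ P' hle hover
  obtain ⟨c, hc, hspec⟩ := exists_generic_ass (N' := ND) P hass
  obtain ⟨Q, _, hQt, hcQ, hQ⟩ := exists_cut p t hc hgen
  obtain ⟨P'', _, hle, hl, hassQ⟩ := hspec Q hcQ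
  have himpQ : FlatCA.IsImpurity A B N p D BD ND f Q t P'' :=
    ⟨hpo, hf, hQt, ht, hl, hassQ, fun P' _ h => hmiss P' (hle.trans h)⟩
  let E := D ⧸ Q
  have hker : RingHom.ker (algebraMap D E) = Q := Ideal.mk_ker
  have hs : Function.Surjective (algebraMap D E) := Ideal.Quotient.mk_surjective
  let tE : Ideal E := t.map (algebraMap D E)
  haveI : tE.IsPrime := Ideal.map_isPrime_of_surjective hs (hker.trans_le hQt)
  haveI : tE.LiesOver t := ⟨by
    show t = Ideal.comap _ (Ideal.map _ t)
    rw [Ideal.comap_map_of_surjective _ hs, ← RingHom.ker_eq_comap_bot, hker, sup_eq_left.2 hQt]⟩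
  haveI : (⊥ : Ideal E).IsPrime := Ideal.isPrime_bot
  haveI : (⊥ : Ideal E).LiesOver Q := ⟨hker.symm.trans (RingHom.ker_eq_comap_bot _)⟩
  haveI : tE.LiesOver p := Ideal.LiesOver.trans tE t p
  obtain ⟨BE, NE, _, _, _, _, _, _, _, _, _, _, _, _, g, hpoE, hgE⟩ := exists_data A B N E
  obtain ⟨PE, _, himpE⟩ := impurity_up hpoE hgE himpQ (⊥ : Ideal E) tE bot_le
  haveI : Algebra.FiniteType A E := (‹Algebra.FiniteType A D›).of_surjective (Ideal.Quotient.mkₐ A Q) hs
  haveI : IsNoetherianRing E := Algebra.FiniteType.isNoetherianRing A E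
  haveI : Algebra.QuasiFiniteAt A tE := by
    refine quasiFiniteAt_of_isolated p tE fun q hq hql hcmp => ?_
    let q₀ := q.comap (algebraMap D E)
    haveI : q₀.IsPrime := Ideal.IsPrime.comap _
    haveI : q₀.LiesOver p := ⟨by
      rw [hql.over]
      show Ideal.comap _ q = Ideal.comap _ (Ideal.comap _ q)
      rw [Ideal.comap_comap, ← IsScalarTower.algebraMap_eq]⟩
    have htc : tE.comap (algebraMap D E) = t := (tE.over_def t).symm
    have hQq : Q ≤ q₀ := hker.ge.trans (Ideal.comap_mono bot_le)
    have he : q₀ = t := by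
      rcases hcmp with h | h
      · exact hQ q₀ inferInstance hQq ((Ideal.comap_mono h).trans htc.le) inferInstance
      · exact hclosed q₀ inferInstance inferInstance (htc.ge.trans (Ideal.comap_mono h))
    exact Ideal.comap_injective_of_surjective _ hs (he.trans htc.symm)
  exact ⟨E, BE, NE, _, _, _, _, _, _, ‹_›, ‹_›, _, _, _, ‹_›, _, ‹_›, g, ⊥, tE, inferInstance, inferInstance, PE,
    inferInstance, himpE, inferInstance, inferInstance, ‹_›⟩

end GrothLib.RG6.Impure
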