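import Groth.Agent.Lib.RG6.Impure.QF

/-!
# Points of products, composites
-/

set_option autoImplicit false
set_option linter.style.haveILetI false
set_option linter.unusedSectionVars false

universe u

open TensorProduct

namespace GrothLib.RG6.Impure

variable {A A₁ A' : Type u} [CommRing A] [CommRing A₁] [CommRing A'] [Algebra A A₁] [Algebra A A']
  {p : Ideal A} [p.IsPrime] (t : Ideal A₁) [t.IsPrime] [t.LiesOver p] (p' : Ideal A') [p'.IsPrime] [p'.LiesOver p]

include p in
theorem exists_prime_pair : ∃ (t₂ : Ideal (A₁ ⊗[A] A')) (_ : t₂.IsPrime),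
    t₂.comap (Algebra.TensorProduct.includeLeftRingHom) = t ∧
      t₂.comap (Algebra.TensorProduct.includeRight : A' →ₐ[A] A₁ ⊗[A] A').toRingHom = p' := by
  letI : Algebra p.ResidueField t.ResidueField :=
    (Ideal.ResidueField.map p t (algebraMap A A₁) (t.over_def p)).toAlgebra
  letI : Algebra p.ResidueField p'.ResidueField :=
    (Ideal.ResidueField.map p p' (algebraMap A A') (p'.over_def p)).toAlgebra
  haveI : IsScalarTower A p.ResidueField t.ResidueField := .of_algebraMap_eq fun x => by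
    rw [IsScalarTower.algebraMap_apply A A₁ t.ResidueField]
    exact (Ideal.ResidueField.map_algebraMap _ _ _ _ x).symm
  haveI : IsScalarTower A p.ResidueField p'.ResidueField := .of_algebraMap_eq fun x => by
    rw [IsScalarTower.algebraMap_apply A A' p'.ResidueField]
    exact (Ideal.ResidueField.map_algebraMap _ _ _ _ x).symm
  let T := t.ResidueField ⊗[p.ResidueField] p'.ResidueField
  obtain ⟨m, hm⟩ := Ideal.exists_maximal T
  letI := Ideal.Quotient.field m
  let g₁ : A₁ →ₐ[A] T ⧸ m := (Ideal.Quotient.mkₐ A m).comp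
    (((Algebra.TensorProduct.includeLeft : t.ResidueField →ₐ[p.ResidueField] T).restrictScalars A).comp (IsScalarTower.toAlgHom A A₁ t.ResidueField))
  let g₂ : A' →ₐ[A] T ⧸ m := (Ideal.Quotient.mkₐ A m).comp
    (((Algebra.TensorProduct.includeRight : p'.ResidueField →ₐ[p.ResidueField] T).restrictScalars A).comp (IsScalarTower.toAlgHom A A' p'.ResidueField))
  let ψ := Algebra.TensorProduct.lift g₁ g₂ fun _ _ => Commute.all _ _
  refine ⟨RingHom.ker ψ.toRingHom, RingHom.ker_isPrime _, ?_, ?_⟩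
  · ext x
    show ψ (x ⊗ₜ[A] 1) = 0 ↔ _
    rw [Algebra.TensorProduct.lift_tmul, map_one, mul_one]
    refine Iff.trans ?_ Ideal.algebraMap_residueField_eq_zero
    exact map_eq_zero ((Ideal.Quotient.mk m).comp (Algebra.TensorProduct.includeLeftRingHom : t.ResidueField →+* T))
  · ext x
    show ψ ((1 : A₁) ⊗ₜ[A] x) = 0 ↔ _
    rw [Algebra.TensorProduct.lift_tmul, map_one, one_mul]
    refine Iff.trans ?_ Ideal.algebraMap_residueField_eq_zero
    exact map_eq_zero ((Ideal.Quotient.mk m).comp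
      (Algebra.TensorProduct.includeRight : p'.ResidueField →ₐ[p.ResidueField] T).toRingHom)

/-- Residue fields of a pair over an étale neighbourhood. -/
theorem exists_prime_pair_nhd (h : Function.Bijective (Ideal.ResidueField.mapₐ p t (Algebra.ofId A A₁) (t.over_def p))) :
    ∃ (t₂ : Ideal (A' ⊗[A] A₁)) (_ : t₂.IsPrime) (_ : t₂.LiesOver p'),
      t₂.comap (Algebra.TensorProduct.includeRight : A₁ →ₐ[A] A' ⊗[A] A₁).toRingHom = t ∧
      Function.Bijective (Ideal.ResidueField.mapₐ p' t₂ (Algebra.ofId A' (A' ⊗[A] A₁)) (t₂.over_def p')) := by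
  let e := AlgEquiv.ofBijective _ h
  let g₁ : A₁ →ₐ[A] p'.ResidueField :=
    (Ideal.ResidueField.mapₐ p p' (Algebra.ofId A A') (p'.over_def p)).comp
      (e.symm.toAlgHom.comp (IsScalarTower.toAlgHom A A₁ t.ResidueField))
  let ψ : A' ⊗[A] A₁ →ₐ[A'] p'.ResidueField :=
    Algebra.TensorProduct.lift (Algebra.ofId A' p'.ResidueField) g₁ fun _ _ => Commute.all _ _
  haveI : (RingHom.ker ψ.toRingHom).IsPrime := RingHom.ker_isPrime _
  haveI hl : (RingHom.ker ψ.toRingHom).LiesOver p' := ⟨by
    ext x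
    show x ∈ p' ↔ ψ (algebraMap A' (A' ⊗[A] A₁) x) = 0
    rw [ψ.commutes, Ideal.algebraMap_residueField_eq_zero]⟩
  refine ⟨RingHom.ker ψ.toRingHom, inferInstance, hl, ?_, ?_⟩
  · ext x
    show ψ ((1 : A') ⊗ₜ[A] x) = 0 ↔ _
    rw [Algebra.TensorProduct.lift_tmul, map_one, one_mul]
    refine Iff.trans ?_ Ideal.algebraMap_residueField_eq_zero
    exact map_eq_zero ((Ideal.ResidueField.mapₐ p p' (Algebra.ofId A A') (p'.over_def p)).toRingHom.comp
      e.symm.toAlgHom.toRingHom)
  · refine ⟨RingHom.injective _, fun z => ?_⟩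
    let J := RingHom.ker ψ.toRingHom
    let χ : J.ResidueField →+* p'.ResidueField :=
      Ideal.ResidueField.lift J ψ.toRingHom le_rfl (fun x hx => isUnit_iff_ne_zero.2 hx)
    refine ⟨χ z, RingHom.injective χ ?_⟩
    have hcomp : χ.comp (Ideal.ResidueField.mapₐ p' J (Algebra.ofId A' (A' ⊗[A] A₁)) hl.over).toRingHom =
        RingHom.id _ := Ideal.ResidueField.ringHom_ext (RingHom.ext fun x => by
      show χ (Ideal.ResidueField.mapₐ p' J _ _ (algebraMap A' p'.ResidueField x)) = algebraMap A' p'.ResidueField x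
      rw [AlgHom.commutes, IsScalarTower.algebraMap_apply A' (A' ⊗[A] A₁) J.ResidueField,
        Ideal.ResidueField.lift_algebraMap]
      exact ψ.commutes x)
    exact RingHom.congr_fun hcomp (χ z)

attribute [local instance] Algebra.TensorProduct.rightAlgebra in
/-- Going down to a pair, when the local ring of the point is flat. -/
theorem exists_le_pair [Module.Flat A (Localization.AtPrime p')] (t' : Ideal A₁) [t'.IsPrime] (hle : t' ≤ t)
    (t₂ : Ideal (A' ⊗[A] A₁)) [t₂.IsPrime] [t₂.LiesOver p'] [t₂.LiesOver t] :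
    ∃ (t₂' : Ideal (A' ⊗[A] A₁)) (_ : t₂'.IsPrime), t₂' ≤ t₂ ∧ t₂'.LiesOver t' := by
  let W := Localization.AtPrime p' ⊗[A] A₁
  let g₁ : Localization.AtPrime p' →ₐ[A] t₂.ResidueField :=
    IsLocalization.liftAlgHom (M := p'.primeCompl) (f := IsScalarTower.toAlgHom A A' t₂.ResidueField) fun y => by
      refine isUnit_iff_ne_zero.2 fun h => y.2 ?_
      have h' : algebraMap (A' ⊗[A] A₁) t₂.ResidueField (algebraMap A' (A' ⊗[A] A₁) y) = 0 := by
        rw [← IsScalarTower.algebraMap_apply]; exact h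
      exact (Ideal.mem_of_liesOver t₂ p' (y : A')).2 (Ideal.algebraMap_residueField_eq_zero.1 h')
  let ψ := Algebra.TensorProduct.lift g₁ (IsScalarTower.toAlgHom A A₁ t₂.ResidueField) fun _ _ => Commute.all _ _
  let ι : A' ⊗[A] A₁ →ₐ[A] W :=
    Algebra.TensorProduct.map (IsScalarTower.toAlgHom A A' (Localization.AtPrime p')) (AlgHom.id A A₁)
  let w := RingHom.ker ψ.toRingHom
  haveI : w.IsPrime := RingHom.ker_isPrime _
  have hι : ψ.comp ι = IsScalarTower.toAlgHom A (A' ⊗[A] A₁) t₂.ResidueField := by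
    refine Algebra.TensorProduct.ext (AlgHom.ext fun x => ?_) (AlgHom.ext fun x => ?_)
    · show ψ (ι (x ⊗ₜ[A] 1)) = _
      rw [Algebra.TensorProduct.map_tmul, Algebra.TensorProduct.lift_tmul, map_one, map_one, mul_one]
      show g₁ (algebraMap A' (Localization.AtPrime p') x) = algebraMap (A' ⊗[A] A₁) _ (x ⊗ₜ[A] 1)
      rw [IsLocalization.liftAlgHom_apply, IsLocalization.lift_eq]
      exact IsScalarTower.algebraMap_apply A' (A' ⊗[A] A₁) t₂.ResidueField x
    · show ψ (ι ((1 : A') ⊗ₜ[A] x)) = _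
      rw [Algebra.TensorProduct.map_tmul, map_one, Algebra.TensorProduct.lift_tmul, map_one, one_mul]
      exact IsScalarTower.algebraMap_apply A₁ (A' ⊗[A] A₁) t₂.ResidueField x
  have hw : w.comap ι.toRingHom = t₂ := Ideal.ext fun x =>
    (show ψ (ι x) = 0 ↔ _ from (by rw [show ψ (ι x) = _ from AlgHom.congr_fun hι x]
                                   exact Ideal.algebraMap_residueField_eq_zero))
  haveI : w.LiesOver t := ⟨by
    rw [t₂.over_def t, ← hw]
    show Ideal.comap _ (Ideal.comap _ w) = Ideal.comap _ w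
    rw [Ideal.comap_comap]
    congr 1
    exact RingHom.ext fun x => show ι ((1 : A') ⊗ₜ[A] x) = (1 : Localization.AtPrime p') ⊗ₜ[A] x by
      rw [Algebra.TensorProduct.map_tmul, map_one]; rfl⟩
  haveI : Algebra.IsPushout A A₁ (Localization.AtPrime p') W := inferInstance
  haveI : Module.Flat A₁ W := Module.Flat.isBaseChange A A₁ (Localization.AtPrime p') _ this.out
  obtain ⟨c, hc, _, hcl⟩ := Ideal.exists_ideal_le_liesOver_of_le (p := t') (q := t) w hle
  refine ⟨c.comap ι.toRingHom, inferInstance, hw ▸ Ideal.comap_mono hc, ⟨?_⟩⟩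
  rw [hcl.over]
  show Ideal.comap _ c = Ideal.comap _ (Ideal.comap _ c)
  rw [Ideal.comap_comap]
  congr 1
  exact RingHom.ext fun x => show (1 : Localization.AtPrime p') ⊗ₜ[A] x = ι ((1 : A') ⊗ₜ[A] x) by
    rw [Algebra.TensorProduct.map_tmul, map_one]; rfl

end GrothLib.RG6.Impure
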