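import Groth.Agent.Lib.RG6.Impure.Basic

/-!
# Impurities descend to finite stages
-/

set_option autoImplicit false
set_option linter.style.haveILetI false
set_option linter.unusedSectionVars false

universe u

open TensorProduct

namespace GrothLib.RG6.Impure

variable {A B : Type u} [CommRing A] [CommRing B] [Algebra A B] [Algebra.FiniteType A B]
  {N : Type u} [AddCommGroup N] [Module B N] {p : Ideal A} [p.IsPrime]
  {A₂ B₂ N₂ : Type u} [CommRing A₂] [CommRing B₂] [Algebra A A₂] [Algebra B B₂] [Algebra A₂ B₂] [Algebra A B₂]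
  [IsScalarTower A B B₂] [IsScalarTower A A₂ B₂] [AddCommGroup N₂] [Module B₂ N₂] [Module B N₂]
  [IsScalarTower B B₂ N₂] [Module A₂ N₂] [IsScalarTower A₂ B₂ N₂] {f₂ : N →ₗ[B] N₂}

/-- Every element of a base change comes from any stage containing finitely many elements of the ring. -/
theorem exists_finset_lift (hpo : Algebra.IsPushout A B A₂ B₂) (c : B₂) : ∃ F : Finset A₂,
    ∀ (A₁ B₁ : Type u) [CommRing A₁] [CommRing B₁] [Algebra A₁ A₂] [Algebra A₁ B₁] [Algebra B B₁] [Algebra B₁ B₂]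
      [Algebra A₁ B₂] [IsScalarTower A₁ A₂ B₂] [IsScalarTower A₁ B₁ B₂] [IsScalarTower B B₁ B₂],
      (F : Set A₂) ⊆ Set.range (algebraMap A₁ A₂) → c ∈ Set.range (algebraMap B₁ B₂) := by
  classical
  refine hpo.out.inductionOn c _ ⟨∅, fun _ _ _ _ _ _ _ _ _ _ _ _ _ => ⟨0, map_zero _⟩⟩ (fun a => ?_) ?_ ?_
  · refine ⟨{a}, fun A₁ B₁ _ _ _ _ _ _ _ _ _ _ h => ?_⟩
    obtain ⟨x, hx⟩ := h (Finset.mem_singleton_self a)
    refine ⟨algebraMap A₁ B₁ x, ?_⟩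
    show _ = algebraMap A₂ B₂ a
    rw [← IsScalarTower.algebraMap_apply A₁ B₁ B₂, IsScalarTower.algebraMap_apply A₁ A₂ B₂, hx]
  · rintro b n ⟨F, hF⟩
    refine ⟨F, fun A₁ B₁ _ _ _ _ _ _ _ _ _ _ h => ?_⟩
    obtain ⟨x, hx⟩ := hF A₁ B₁ h
    exact ⟨algebraMap B B₁ b * x, by rw [map_mul, ← IsScalarTower.algebraMap_apply B B₁ B₂, hx, ← Algebra.smul_def]⟩
  · rintro m n ⟨F, hF⟩ ⟨G, hG⟩
    refine ⟨F ∪ G, fun A₁ B₁ _ _ _ _ _ _ _ _ _ _ h => ?_⟩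
    rw [Finset.coe_union, Set.union_subset_iff] at h
    obtain ⟨x, rfl⟩ := hF A₁ B₁ h.1
    obtain ⟨y, rfl⟩ := hG A₁ B₁ h.2
    exact ⟨x + y, map_add _ _ _⟩

/-- An element of the extension of an ideal comes from any stage containing finitely many elements. -/
theorem exists_finset_lift_map (hpo : Algebra.IsPushout A B A₂ B₂) (t : Ideal A₂) {c : B₂}
    (hc : c ∈ t.map (algebraMap A₂ B₂)) : ∃ F : Finset A₂,
    ∀ (A₁ B₁ : Type u) [CommRing A₁] [CommRing B₁] [Algebra A₁ A₂] [Algebra A₁ B₁] [Algebra B B₁] [Algebra B₁ B₂]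
      [Algebra A₁ B₂] [IsScalarTower A₁ A₂ B₂] [IsScalarTower A₁ B₁ B₂] [IsScalarTower B B₁ B₂],
      (F : Set A₂) ⊆ Set.range (algebraMap A₁ A₂) →
      ∃ y ∈ (t.comap (algebraMap A₁ A₂)).map (algebraMap A₁ B₁), algebraMap B₁ B₂ y = c := by
  classical
  refine Submodule.span_induction (p := fun c _ => ∃ F : Finset A₂,
    ∀ (A₁ B₁ : Type u) [CommRing A₁] [CommRing B₁] [Algebra A₁ A₂] [Algebra A₁ B₁] [Algebra B B₁] [Algebra B₁ B₂]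
      [Algebra A₁ B₂] [IsScalarTower A₁ A₂ B₂] [IsScalarTower A₁ B₁ B₂] [IsScalarTower B B₁ B₂],
      (F : Set A₂) ⊆ Set.range (algebraMap A₁ A₂) →
      ∃ y ∈ (t.comap (algebraMap A₁ A₂)).map (algebraMap A₁ B₁), algebraMap B₁ B₂ y = c) ?_ ?_ ?_ ?_ hc
  · rintro _ ⟨a, ha, rfl⟩
    refine ⟨{a}, fun A₁ B₁ _ _ _ _ _ _ _ _ _ _ h => ?_⟩
    obtain ⟨x, rfl⟩ := h (Finset.mem_singleton_self a)
    exact ⟨algebraMap A₁ B₁ x, Ideal.mem_map_of_mem _ ha,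
      by rw [← IsScalarTower.algebraMap_apply A₁ B₁ B₂, IsScalarTower.algebraMap_apply A₁ A₂ B₂]⟩
  · exact ⟨∅, fun _ _ _ _ _ _ _ _ _ _ _ _ _ => ⟨0, zero_mem _, map_zero _⟩⟩
  · rintro m n - - ⟨F, hF⟩ ⟨G, hG⟩
    refine ⟨F ∪ G, fun A₁ B₁ _ _ _ _ _ _ _ _ _ _ h => ?_⟩
    rw [Finset.coe_union, Set.union_subset_iff] at h
    obtain ⟨x, hx, rfl⟩ := hF A₁ B₁ h.1
    obtain ⟨y, hy, rfl⟩ := hG A₁ B₁ h.2
    exact ⟨x + y, add_mem hx hy, map_add _ _ _⟩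
  · rintro b m - ⟨F, hF⟩
    obtain ⟨G, hG⟩ := exists_finset_lift hpo b
    refine ⟨F ∪ G, fun A₁ B₁ _ _ _ _ _ _ _ _ _ _ h => ?_⟩
    rw [Finset.coe_union, Set.union_subset_iff] at h
    obtain ⟨x, hx, rfl⟩ := hF A₁ B₁ h.1
    obtain ⟨y, rfl⟩ := hG A₁ B₁ h.2
    exact ⟨y * x, Ideal.mul_mem_left _ _ hx, map_mul _ _ _⟩

/-- An impurity descends to every stage containing finitely many elements of the base change ring;
moreover the point below may then be moved, away from the witness. -/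
theorem exists_stage {t' t : Ideal A₂} [t'.IsPrime] [t.IsPrime] {P : Ideal B₂} [P.IsPrime]
    (himp : FlatCA.IsImpurity A B N p A₂ B₂ N₂ f₂ t' t P) : ∃ (s : A₂) (F : Finset A₂), s ∉ t ∧
    ∀ (A₁ : Type u) [CommRing A₁] [Algebra A A₁] [Algebra A₁ A₂] [IsScalarTower A A₁ A₂],
      (F : Set A₂) ⊆ Set.range (algebraMap A₁ A₂) →
      ∀ s₁ : A₁, algebraMap A₁ A₂ s₁ = s → ∀ t₁ : Ideal A₁, t₁.IsPrime → t₁.LiesOver p →
        t.comap (algebraMap A₁ A₂) ≤ t₁ → s₁ ∉ t₁ →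
        ∀ Q : ∀ (C : Type u) [CommRing C] [Algebra A C], Ideal C → Prop, Q A₁ t₁ →
          FlatCA.HasImpurity A B N p Q := by
  classical
  obtain ⟨hpo₂, hf₂, hle, ht, hP, hass, hmiss⟩ := himp
  obtain ⟨s, hs, hmem⟩ := (miss_iff t P).1 hmiss
  obtain ⟨x, hx, y, hy, hxy⟩ := Submodule.mem_sup.1 hmem
  obtain ⟨F, hF⟩ := exists_finset_lift_map hpo₂ t hy
  refine ⟨s, F, hs, fun A₁ _ _ _ _ hFr s₁ hs₁ t₁ _ _ hle₁ hs₁t Q hQ => ?_⟩
  obtain ⟨B₁, N₁, _, _, _, _, _, _, _, _, _, _, _, _, f₁, hpo₁, hf₁⟩ := exists_data A B N A₁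
  obtain ⟨_, _, _, _, _, hsq, _, _, φ, hφ, -⟩ := exists_map hpo₁ hf₁ hpo₂ hf₂
  obtain ⟨y₁, hy₁, hy₁e⟩ := hF A₁ B₁ hFr
  refine ⟨A₁, B₁, N₁, _, _, _, _, _, _, ‹_›, ‹_›, _, _, _, ‹_›, _, ‹_›, f₁, _, t₁, inferInstance, inferInstance, _,
    inferInstance, impurity_down hφ hpo₁ hf₁ hP hass t₁ (le_trans (Ideal.comap_mono hle) hle₁) ?_, hQ⟩
  refine (miss_iff t₁ _).2 ⟨s₁, hs₁t, Submodule.mem_sup.2 ⟨algebraMap A₁ B₁ s₁ - y₁, ?_, y₁,
    Ideal.map_mono hle₁ hy₁, sub_add_cancel _ _⟩⟩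
  rw [Ideal.mem_comap, map_sub, ← IsScalarTower.algebraMap_apply A₁ B₁ B₂, IsScalarTower.algebraMap_apply A₁ A₂ B₂,
    hs₁, hy₁e, ← hxy, add_sub_cancel_right]
  exact hx

end GrothLib.RG6.Impure
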